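import Mathlib
import Cfsg.Agent.ThreeFour.Defs
import Cfsg.Agent.Small.Toolkit

/-!
# Elementary consequences of the hypothesis on the centraliser of an element of order three
-/

set_option autoImplicit false

namespace Cfsg.Lib.ThreeFour.CharTh

open Subgroup
open scoped Pointwise

universe u

variable {G : Type u} [Group G] {x : G} {V : Subgroup G}

/-- The power of `x` with exponent modulo three. -/
def xp (x : G) (k : ZMod 3) : G := x ^ k.val

theorem pow_three (H : Hyp x V) : x ^ 3 = 1 := H.ord ▸ pow_orderOf_eq_one x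

theorem x_ne_one (H : Hyp x V) : x ≠ 1 := fun e => by
  have := H.ord
  rw [e, orderOf_one] at this
  omega

theorem xp_mem (k : ZMod 3) : xp x k ∈ zpowers x := pow_mem (mem_zpowers x) _

theorem xp_zero : xp x 0 = 1 := by simp [xp]

theorem xp_one : xp x 1 = x := by simp [xp, ZMod.val_one]

theorem xp_add (H : Hyp x V) (a b : ZMod 3) : xp x (a + b) = xp x a * xp x b := by
  rw [xp, xp, xp, ← pow_add, ZMod.val_add]
  have h := pow_mod_orderOf x (a.val + b.val)
  rwa [H.ord] at h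

theorem xp_neg (H : Hyp x V) (a : ZMod 3) : xp x (-a) = (xp x a)⁻¹ := by
  refine eq_inv_of_mul_eq_one_left ?_
  rw [← xp_add H, neg_add_cancel, xp_zero]

theorem xp_injective (H : Hyp x V) : Function.Injective (xp x) := fun a b h => by
  refine ZMod.val_injective 3 (pow_injOn_Iio_orderOf ?_ ?_ h) <;>
    rw [Set.mem_Iio, H.ord] <;> exact ZMod.val_lt _

theorem mem_zpowers_iff_xp (H : Hyp x V) {g : G} : g ∈ zpowers x ↔ ∃ k : ZMod 3, xp x k = g := by
  refine ⟨fun hg => ?_, fun ⟨k, hk⟩ => hk ▸ xp_mem k⟩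
  rw [mem_zpowers_iff] at hg
  obtain ⟨z, rfl⟩ := hg
  refine ⟨(z : ZMod 3), ?_⟩
  rw [xp, ← zpow_natCast, ZMod.val_intCast]
  have h := zpow_mod_orderOf x z
  rw [H.ord] at h
  exact_mod_cast h

theorem eq_one_of_mem_inter (H : Hyp x V) {g : G} (h1 : g ∈ zpowers x) (h2 : g ∈ V) : g = 1 := by
  obtain ⟨k, rfl⟩ := (mem_zpowers_iff_xp H).1 h1
  have h3 : xp x (k + k) = 1 := by rw [xp_add H]; exact H.sq _ h2
  have h4 : k + k = 0 := xp_injective H (h3.trans xp_zero.symm)
  have : ∀ j : ZMod 3, j + j = 0 → j = 0 := by decide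
  rw [this k h4, xp_zero]

theorem sq_inv (H : Hyp x V) {w : G} (hw : w ∈ V) : w⁻¹ = w :=
  inv_eq_of_mul_eq_one_right (H.sq w hw)

theorem V_comm (H : Hyp x V) {u w : G} (hu : u ∈ V) (hw : w ∈ V) : Commute u w := by
  have h := H.sq _ (V.mul_mem hu hw)
  have h2 : (u * w)⁻¹ = u * w := inv_eq_of_mul_eq_one_right h
  rw [mul_inv_rev, sq_inv H hu, sq_inv H hw] at h2
  exact h2.symm

theorem comm_xp (H : Hyp x V) {w : G} (hw : w ∈ V) (k : ZMod 3) : Commute w (xp x k) :=
  (H.comm w hw).pow_right _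

theorem decomp (H : Hyp x V) {k k' : ZMod 3} {w w' : G} (hw : w ∈ V) (hw' : w' ∈ V)
    (h : xp x k * w = xp x k' * w') : k = k' ∧ w = w' := by
  have h1 : (xp x k')⁻¹ * xp x k = w' * w⁻¹ := by
    rw [eq_mul_inv_iff_mul_eq, mul_assoc, h, inv_mul_cancel_left]
  have h2 := eq_one_of_mem_inter H (mul_mem (inv_mem (xp_mem k')) (xp_mem k))
    (h1 ▸ V.mul_mem hw' (V.inv_mem hw))
  have h3 : k = k' := xp_injective H (inv_mul_eq_one.1 h2).symm
  exact ⟨h3, by rw [h3] at h; exact mul_left_cancel h⟩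

theorem exists_xp (H : Hyp x V) {g : G} (hg : Commute g x) :
    ∃ k : ZMod 3, ∃ w ∈ V, g = xp x k * w := by
  obtain ⟨i, hi, w, hw, rfl⟩ := H.cent g hg
  obtain ⟨k, rfl⟩ := (mem_zpowers_iff_xp H).1 hi
  exact ⟨k, w, hw, rfl⟩

theorem commute_cent (H : Hyp x V) {g g' : G} (hg : Commute g x) (hg' : Commute g' x) :
    Commute g g' := by
  obtain ⟨k, w, hw, rfl⟩ := exists_xp H hg
  obtain ⟨k', w', hw', rfl⟩ := exists_xp H hg'
  refine Commute.mul_left (Commute.mul_right ?_ ?_) (Commute.mul_right ?_ ?_)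
  · exact ((Commute.refl x).pow_pow _ _)
  · exact (comm_xp H hw' k).symm
  · exact comm_xp H hw k'
  · exact V_comm H hw hw'

theorem pow_four (H : Hyp x V) {w : G} (hw : w ∈ V) : (x * w) ^ 4 = x := by
  rw [(H.comm w hw).symm.mul_pow, pow_succ x 3, pow_three H, one_mul,
    show w ^ 4 = (w * w) * (w * w) by simp only [pow_succ, pow_zero, one_mul, mul_assoc],
    H.sq w hw, one_mul, mul_one]

theorem orderOf_three_dvd (H : Hyp x V) {w : G} (hw : w ∈ V) :
    3 ∣ orderOf (x * w) ∧ orderOf (x * w) ∣ 6 := by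
  refine ⟨?_, orderOf_dvd_of_pow_eq_one ?_⟩
  · have h := orderOf_pow_dvd (x := x * w) 4
    rw [pow_four H hw, H.ord] at h
    exact h
  · rw [(H.comm w hw).symm.mul_pow, show x ^ 6 = (x ^ 3) ^ 2 by rw [← pow_mul], pow_three H,
      show w ^ 6 = (w * w) * (w * w) * (w * w) by simp only [pow_succ, pow_zero, one_mul, mul_assoc],
      H.sq w hw]
    simp

theorem eq_of_isConj_mul (H : Hyp x V) {u w : G} (hu : u ∈ V) (hw : w ∈ V)
    (h : IsConj (x * u) (x * w)) : u = w := by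
  obtain ⟨g, hg⟩ := isConj_iff.1 h
  have h4 : g * x * g⁻¹ = x := by
    have := congrArg (fun t => t ^ 4) hg
    simp only [conj_pow, pow_four H hu, pow_four H hw] at this
    exact this
  have hgx : Commute g x := mul_inv_eq_iff_eq_mul.1 h4
  have h5 := commute_cent H hgx ((Commute.refl x).mul_left (H.comm u hu))
  rw [h5.eq, mul_inv_cancel_right] at hg
  exact mul_left_cancel hg

section finiteness

variable [Finite G]

theorem card_cent (H : Hyp x V) {w : G} (hw : w ∈ V) :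
    Nat.card (centralizer ({x * w} : Set G)) = 3 * Nat.card V := by
  have hxw : Commute (x * w) x := (Commute.refl x).mul_left (H.comm w hw)
  rw [show 3 * Nat.card V = Nat.card (ZMod 3 × V) by rw [Nat.card_prod, Nat.card_zmod]]
  refine (Nat.card_congr (Equiv.ofBijective
    (fun p : ZMod 3 × V => (⟨xp x p.1 * p.2, mem_centralizer_singleton_iff.2
      (commute_cent H (Commute.mul_left ((Commute.refl x).pow_left _) (H.comm _ p.2.2)) hxw).eq⟩ :
      centralizer ({x * w} : Set G))) ⟨?_, ?_⟩)).symm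
  · rintro ⟨k, u, hu⟩ ⟨k', u', hu'⟩ h
    obtain ⟨rfl, rfl⟩ := decomp H hu hu' (congrArg Subtype.val h)
    rfl
  · rintro ⟨g, hg⟩
    have h1 : Commute g (x * w) := mem_centralizer_singleton_iff.1 hg
    have h2 := h1.pow_right 4
    rw [pow_four H hw] at h2
    obtain ⟨k, u, hu, rfl⟩ := exists_xp H h2
    exact ⟨⟨k, u, hu⟩, rfl⟩

theorem cent_ne (H : Hyp x V) : Nat.card V ≠ 0 := Nat.card_pos.ne'

instance fact_three : Fact (Nat.Prime 3) := ⟨Nat.prime_three⟩

/-- Elements of three-power order commuting with `x` are powers of `x`. -/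
theorem mem_of_three_power (H : Hyp x V) {g : G} (hg : Commute g x) {k : ℕ} (hk : g ^ 3 ^ k = 1) :
    g ∈ zpowers x := by
  obtain ⟨j, w, hw, rfl⟩ := exists_xp H hg
  have hodd : w ^ 3 ^ k = w := by
    obtain ⟨m, hm⟩ := (show Odd (3 ^ k) from (by decide : Odd 3).pow)
    rw [hm, pow_succ, pow_mul, pow_two, H.sq w hw, one_pow, one_mul]
  rw [(comm_xp H hw j).symm.mul_pow, hodd] at hk
  have h1 : w ∈ zpowers x := by
    rw [eq_inv_of_mul_eq_one_right hk]
    exact inv_mem (pow_mem (xp_mem j) _)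
  rw [eq_one_of_mem_inter H h1 hw, mul_one]
  exact xp_mem j

theorem sylow_eq (H : Hyp x V) : ∃ P : Sylow 3 G, (P : Subgroup G) = zpowers x := by
  have hp : IsPGroup 3 (zpowers x) := IsPGroup.of_card (n := 1) (by rw [Nat.card_zpowers, H.ord, pow_one])
  obtain ⟨P, hP⟩ := hp.exists_le_sylow
  refine ⟨P, le_antisymm ?_ hP⟩
  have hxP : x ∈ (P : Subgroup G) := hP (mem_zpowers x)
  have hne : Nontrivial (P : Subgroup G) := ⟨⟨⟨x, hxP⟩, 1, fun e => x_ne_one H (congrArg Subtype.val e)⟩⟩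
  obtain ⟨⟨z, hz⟩, hz1⟩ := (nontrivial_iff_exists_ne (1 : center (P : Subgroup G))).1
    P.2.center_nontrivial
  have hzc : ∀ g ∈ (P : Subgroup G), Commute g (z : G) := fun g hg =>
    congrArg Subtype.val (mem_center_iff.1 hz ⟨g, hg⟩)
  obtain ⟨k, hk⟩ := P.2 z
  have hzmem := mem_of_three_power H (hzc x hxP).symm (k := k) (by exact_mod_cast congrArg Subtype.val hk)
  obtain ⟨j, hj⟩ := (mem_zpowers_iff_xp H).1 hzmem
  have hj0 : j ≠ 0 := fun e => hz1 (by
    refine Subtype.ext (Subtype.ext ?_)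
    rw [← hj, e, xp_zero]; rfl)
  intro g hg
  have hgz : Commute g (xp x j) := hj ▸ hzc g hg
  have hgx : Commute g x := by
    have h2 : ∀ i : ZMod 3, i ≠ 0 → i = 1 ∨ i + i = 1 := by decide
    rcases h2 j hj0 with e | e
    · rwa [e, xp_one] at hgz
    · have := hgz.mul_right hgz
      rwa [← xp_add H, e, xp_one] at this
  obtain ⟨m, hm⟩ := P.2 ⟨g, hg⟩
  exact mem_of_three_power H hgx (k := m) (by simpa using congrArg Subtype.val hm)

theorem factorization_three (H : Hyp x V) : (Nat.card G).factorization 3 = 1 := by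
  obtain ⟨P, hP⟩ := sylow_eq H
  have h := P.card_eq_multiplicity
  rw [hP, Nat.card_zpowers, H.ord] at h
  exact (Nat.pow_right_injective (le_refl 2 |>.trans (by norm_num : (2 : ℕ) ≤ 3)) (by simpa using h.symm))

theorem card_eq (H : Hyp x V) : ∃ q : ℕ, Nat.card G = 3 * q ∧ ¬ 3 ∣ q := by
  refine ⟨Nat.card G / 3, ?_, ?_⟩
  · conv_lhs => rw [← Nat.ordProj_mul_ordCompl_eq_self (Nat.card G) 3]
    rw [factorization_three H, pow_one]
  · have := Nat.not_dvd_ordCompl Nat.prime_three (Nat.card_pos (α := G)).ne'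
    rwa [factorization_three H, pow_one] at this

/-- Every element of order three is conjugate to `x` or to its inverse. -/
theorem conj_of_order_three (H : Hyp x V) {g : G} (hg : orderOf g = 3) :
    IsConj x g ∨ IsConj x⁻¹ g := by
  obtain ⟨P, hP⟩ := sylow_eq H
  have hp : IsPGroup 3 (zpowers g) := IsPGroup.of_card (n := 1) (by rw [Nat.card_zpowers, hg, pow_one])
  obtain ⟨Q, hQ⟩ := hp.exists_le_sylow
  obtain ⟨c, hc⟩ := MulAction.exists_smul_eq G P Q
  have hmem : g ∈ (c • P : Sylow 3 G) := hc ▸ hQ (mem_zpowers g)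
  change g ∈ MulAut.conj c • (P : Subgroup G) at hmem
  rw [mem_pointwise_smul_iff_inv_smul_mem, hP, MulAut.inv_def, MulAut.smul_def,
    MulAut.conj_symm_apply] at hmem
  obtain ⟨j, hj⟩ := (mem_zpowers_iff_xp H).1 hmem
  have hg' : IsConj (xp x j) g := isConj_iff.2 ⟨c, by rw [hj]; group⟩
  have h2 : ∀ i : ZMod 3, i = 0 ∨ i = 1 ∨ i = -1 := by decide
  rcases h2 j with e | e | e
  · rw [e, xp_zero, isConj_one_right] at hg'
    rw [hg', orderOf_one] at hg
    omega
  · exact Or.inl (by rwa [e, xp_one] at hg')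
  · exact Or.inr (by rwa [e, xp_neg H, xp_one] at hg')

variable (S : Setting x V)
include S

theorem not_comm : ¬ ∀ a b : G, a * b = b * a := fun h => by
  haveI := S.simple
  let _ : CommGroup G := { ‹Group G› with mul_comm := h }
  have hp : (Nat.card G).Prime := IsSimpleGroup.prime_card
  have h3 : 3 ∣ Nat.card G := S.hyp.ord ▸ orderOf_dvd_natCard x
  have hG : Nat.card G = 3 := ((Nat.prime_dvd_prime_iff_eq Nat.prime_three hp).1 h3).symm
  have hle : Nat.card V ∣ Nat.card G := V.card_subgroup_dvd_card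
  rw [hG] at hle
  rcases S.hyp.card with e | e <;> rw [e] at hle <;> omega

/-- Some element inverts `x`. -/
theorem exists_inverts : ∃ n : G, n * x * n⁻¹ = x⁻¹ := by
  haveI := S.simple
  obtain ⟨P, hP⟩ := sylow_eq S.hyp
  have h3 : 3 ∣ Nat.card G := S.hyp.ord ▸ orderOf_dvd_natCard x
  obtain ⟨n, hn, hnc⟩ := SetLike.not_le_iff_exists.1
    (Cfsg.Lib.Small.not_normalizer_le_centralizer (not_comm S) h3 P)
  refine ⟨n, ?_⟩
  rw [hP] at hn hnc
  have h1 : n * x * n⁻¹ ∈ zpowers x :=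
    ((mem_normalizer_iff).1 hn x).1 (mem_zpowers x)
  obtain ⟨j, hj⟩ := (mem_zpowers_iff_xp S.hyp).1 h1
  have h2 : ∀ i : ZMod 3, i = 0 ∨ i = 1 ∨ i = -1 := by decide
  rcases h2 j with e | e | e
  · rw [e, xp_zero] at hj
    exact absurd (conj_eq_one_iff.1 hj.symm) (x_ne_one S.hyp)
  · exfalso
    rw [e, xp_one] at hj
    refine hnc ?_
    have hc : Commute n x := mul_inv_eq_iff_eq_mul.1 hj.symm
    rw [mem_centralizer_iff]
    intro g hg
    obtain ⟨i, rfl⟩ := (mem_zpowers_iff_xp S.hyp).1 hg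
    exact (hc.pow_right _).eq.symm
  · rw [← hj, e, xp_neg S.hyp, xp_one]

end finiteness

/-- An element inverting `x` permutes `V`. -/
theorem conj_mem (H : Hyp x V) {n : G} (hn : n * x * n⁻¹ = x⁻¹) {w : G} (hw : w ∈ V) :
    n * w * n⁻¹ ∈ V := by
  have h1 : Commute (n * w * n⁻¹) x := by
    have : Commute (n * w * n⁻¹) (n * x * n⁻¹) := (Commute.conj_iff n).2 (H.comm w hw)
    rw [hn] at this
    exact inv_inv x ▸ this.inv_right
  obtain ⟨k, w', hw', he⟩ := exists_xp H h1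
  have h2 : (n * w * n⁻¹) * (n * w * n⁻¹) = 1 := by
    rw [show (n * w * n⁻¹) * (n * w * n⁻¹) = n * (w * w) * n⁻¹ by group, H.sq w hw, mul_one,
      mul_inv_cancel]
  rw [he, (comm_xp H hw' k).mul_mul_mul_comm, H.sq w' hw', mul_one, ← xp_add H] at h2
  have h3 : k + k = 0 := xp_injective H (h2.trans xp_zero.symm)
  have : ∀ j : ZMod 3, j + j = 0 → j = 0 := by decide
  rw [he, this k h3, xp_zero, one_mul]
  exact hw'

end Cfsg.Lib.ThreeFour.CharTh
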