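import Mathlib
import Cfsg.Agent.ThreeFour.Chars.Basic
import Cfsg.Agent.Chars.Sums
import Cfsg.Agent.Chars.Values
import Cfsg.Agent.Chars.Gallagher

/-!
# The coefficients of the characters on the cosets of the four group or pair
-/

set_option autoImplicit false

namespace Cfsg.Lib.ThreeFour.CharTh

open Subgroup Cfsg.Lib.Chars
open scoped ComplexConjugate _root_.Classical

universe u

variable {G : Type u} [Group G] {x : G} {V : Subgroup G}

/-- The value of a linear character. -/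
abbrev sg (l : V →* ℂˣ) (w : V) : ℂ := ((l w : ℂˣ) : ℂ)

theorem sg_cases (H : Hyp x V) (l : V →* ℂˣ) (w : V) : sg l w = 1 ∨ sg l w = -1 := by
  have hw : w * w = 1 := Subtype.ext (H.sq _ w.2)
  have h : l w * l w = 1 := by rw [← map_mul, hw, map_one]
  exact mul_self_eq_one_iff.1 (by rw [← Units.val_mul, h, Units.val_one])

theorem sg_conj (H : Hyp x V) (l : V →* ℂˣ) (w : V) : conj (sg l w) = sg l w := by
  rcases sg_cases H l w with e | e <;> simp [e]

theorem finite_lin [Finite G] (H : Hyp x V) : Finite (V →* ℂˣ) := by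
  refine Finite.of_injective (fun l w => decide (sg l w = 1)) fun l m h => ?_
  refine MonoidHom.ext fun w => Units.ext ?_
  have := congrFun h w
  simp only [decide_eq_decide] at this
  rcases sg_cases H l w with e | e <;> rcases sg_cases H m w with e' | e'
  · exact e.trans e'.symm
  · exact e.trans (this.1 e).symm
  · exact (this.2 e').trans e'.symm
  · exact e.trans e'.symm

variable [Finite G] [Fintype V]

theorem sum_sg (H : Hyp x V) {l : V →* ℂˣ} (hl : l ≠ 1) : ∑ w : V, sg l w = 0 := by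
  refine sum_hom_units_eq_zero ((Units.coeHom ℂ).comp l) fun h => hl ?_
  exact MonoidHom.ext fun w => Units.ext (DFunLike.congr_fun h w)

theorem sum_sg_mul (H : Hyp x V) (l m : V →* ℂˣ) :
    ∑ w : V, sg l w * sg m w = if l = m then (Nat.card V : ℂ) else 0 := by
  split_ifs with h
  · subst h
    rw [Finset.sum_congr rfl (g := fun _ => (1 : ℂ)) fun w _ => by
      rcases sg_cases H l w with e | e <;> simp [e]]
    simp
  · have hne : l * m ≠ 1 := fun e => h (MonoidHom.ext fun w => Units.ext (by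
      have h1 : sg l w * sg m w = 1 := by
        have := congrArg (fun u : ℂˣ => (u : ℂ)) (DFunLike.congr_fun e w)
        simpa [sg] using this
      rcases sg_cases H l w with a | a <;> rcases sg_cases H m w with b | b <;>
        simp_all [sg] <;> norm_num at h1))
    rw [← sum_sg H hne]
    exact Finset.sum_congr rfl fun w _ => by simp [sg]

variable [Fintype (V →* ℂˣ)]

/-- The sum over the linear characters. -/
theorem sum_lin (H : Hyp x V) (w : V) :
    ∑ l : V →* ℂˣ, sg l w = if w = 1 then (Nat.card V : ℂ) else 0 := by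
  letI : CommGroup V := { (inferInstance : Group V) with
    mul_comm := fun a b => Subtype.ext (V_comm H a.2 b.2).eq }
  have hz : ∀ w : V, w ≠ 1 → ∑ l : V →* ℂˣ, sg l w = 0 := by
    intro w hw
    haveI : NeZero (Monoid.exponent V) := ⟨Monoid.exponent_ne_zero_of_finite⟩
    obtain ⟨l₀, hl₀⟩ := CommGroup.exists_apply_ne_one_of_hasEnoughRootsOfUnity V ℂ hw
    have hne : sg l₀ w ≠ 1 := fun e => hl₀ (Units.ext e)
    have h : sg l₀ w * ∑ l : V →* ℂˣ, sg l w = ∑ l : V →* ℂˣ, sg l w := by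
      rw [Finset.mul_sum]
      refine Fintype.sum_equiv (Equiv.mulLeft l₀) _ _ fun l => ?_
      simp [sg]
    exact (mul_left_eq_self₀.1 h).resolve_left hne
  split_ifs with hw
  · subst hw
    have h1 : ∑ w : V, ∑ l : V →* ℂˣ, sg l w = ∑ l : V →* ℂˣ, sg l (1 : V) :=
      Finset.sum_eq_single 1 (fun w _ hw => hz w hw) (by simp)
    rw [← h1, Finset.sum_comm, Finset.sum_eq_single (1 : V →* ℂˣ) (fun l _ hl => sum_sg H hl) (by simp)]
    simp [sg]
  · exact hz w hw

omit [Fintype (V →* ℂˣ)]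

/-- The twisted sum over the coset `x V`. -/
noncomputable def T (x : G) (l : V →* ℂˣ) (f : G → ℂ) : ℂ := ∑ w : V, sg l w * f (x * w)

/-- The twisted sum over `V`. -/
noncomputable def U (l : V →* ℂˣ) (f : G → ℂ) : ℂ := ∑ w : V, sg l w * f w

omit [Fintype V] in
/-- The homomorphism from a cyclic group of order three. -/
noncomputable def hom3 {M : Type*} [Monoid M] (y : M) (hy : y ^ 3 = 1) :
    Multiplicative (ZMod 3) →* M where
  toFun k := y ^ (Multiplicative.toAdd k).val
  map_one' := by simp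
  map_mul' a b := by
    rw [← pow_add, toAdd_mul, ZMod.val_add, ← pow_eq_pow_mod _ hy]

omit [Fintype V] in
theorem sum_three (f : Multiplicative (ZMod 3) → ℂ) :
    ∑ k, f k = f (Multiplicative.ofAdd 0) + f (Multiplicative.ofAdd 1) + f (Multiplicative.ofAdd 2) := by
  rw [← Equiv.sum_comp (Multiplicative.ofAdd (α := ZMod 3))]
  exact Fin.sum_univ_three (f := fun k : ZMod 3 => f (Multiplicative.ofAdd k))

/-- The coefficient and its companion are congruent integers. -/
theorem exists_coeff (H : Hyp x V) {f : G → ℂ} (hf : Cfsg.IsCharacter G f) (l : V →* ℂˣ)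
    (hreal : ∑ w : V, sg l w * f (x⁻¹ * w) = T x l f) :
    ∃ a M : ℤ, T x l f = (Nat.card V : ℂ) * a ∧ U l f = (Nat.card V : ℂ) * M ∧ (3 : ℤ) ∣ M - a := by
  obtain ⟨ω, hω⟩ : ∃ ω : ℂ, IsPrimitiveRoot ω 3 := ⟨_, Complex.isPrimitiveRoot_exp 3 (by norm_num)⟩
  have hω0 : ω ≠ 0 := hω.ne_zero (by norm_num)
  set z : ℂˣ := Units.mk0 ω hω0
  have hz : z ^ 3 = 1 := Units.ext (by simp [z, hω.pow_eq_one])
  have hsum : 1 + conj ω + conj ω ^ 2 = 0 := by
    have h := hω.geom_sum_eq_zero (by norm_num)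
    simp only [Finset.sum_range_succ, Finset.sum_range_zero, zero_add, pow_zero, pow_one] at h
    have := congrArg conj h
    simpa using this
  set φ : Multiplicative (ZMod 3) × V →* G :=
    MonoidHom.noncommCoprod (hom3 x (pow_three H)) V.subtype
      (fun k w => ((H.comm _ w.2).symm.pow_left _)) with hφ
  have hφa : ∀ k w, φ (k, w) = x ^ (Multiplicative.toAdd k).val * (w : G) := fun k w => rfl
  have key : ∀ lam : Multiplicative (ZMod 3) →* ℂˣ, ∃ m : ℕ,
      ∑ k, conj ((lam k : ℂˣ) : ℂ) * ∑ w : V, sg l w * f (x ^ (Multiplicative.toAdd k).val * w) =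
        3 * (Nat.card V : ℂ) * m := by
    intro lam
    set χ : Multiplicative (ZMod 3) × V →* ℂˣ := lam.coprod l
    obtain ⟨m, hm⟩ := classInner_char_nat (IsCharacter.comp_hom hf φ) (isCharacter_linear χ)
    refine ⟨m, ?_⟩
    rw [classInner_def, inv_mul_eq_iff_eq_mul₀ (Nat.cast_ne_zero.2 Nat.card_pos.ne'),
      Fintype.sum_prod_type, Nat.card_prod, show Nat.card (Multiplicative (ZMod 3)) = 3 from
        (Nat.card_congr Multiplicative.toAdd).trans (Nat.card_zmod 3)] at hm
    push_cast at hm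
    rw [← hm]
    refine Finset.sum_congr rfl fun k _ => ?_
    rw [Finset.mul_sum]
    refine Finset.sum_congr rfl fun w _ => ?_
    simp only [χ, MonoidHom.coprod_apply, Units.val_mul, map_mul, hφa, sg_conj H l w]
    ring
  have h2 : ∑ w : V, sg l w * f (x ^ 2 * w) = T x l f := by
    rw [← hreal, show x ^ 2 = x⁻¹ from eq_inv_of_mul_eq_one_left (by rw [← pow_succ, pow_three H])]
  have hU : ∑ w : V, sg l w * f (x ^ 0 * w) = U l f := by simp [U]
  have hT : ∑ w : V, sg l w * f (x ^ 1 * w) = T x l f := by simp [T]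
  obtain ⟨m₀, hm₀⟩ := key 1
  obtain ⟨m₁, hm₁⟩ := key (hom3 z hz)
  rw [sum_three] at hm₀ hm₁
  simp only [toAdd_ofAdd, hom3, MonoidHom.coe_mk, OneHom.coe_mk, MonoidHom.one_apply, Units.val_one,
    map_one, one_mul, Units.val_pow_eq_pow_val, map_pow, z, Units.val_mk0, ZMod.val_zero,
    show (1 : ZMod 3).val = 1 from rfl, show (2 : ZMod 3).val = 2 from rfl, hU, hT, h2,
    pow_zero, pow_one] at hm₀ hm₁
  refine ⟨(m₀ : ℤ) - m₁, (m₀ : ℤ) + 2 * m₁, ?_, ?_, ⟨m₁, by ring⟩⟩
  · push_cast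
    linear_combination (norm := (simp only [T, U]; ring)) (hm₀ - hm₁) / 3 + T x l f / 3 * hsum
  · push_cast
    linear_combination (norm := (simp only [T, U]; ring)) (hm₀ + 2 * hm₁) / 3 - 2 * T x l f / 3 * hsum

/-- Orthogonality of the columns. -/
theorem sum_T_conj (H : Hyp x V) (l m : V →* ℂˣ) :
    ∑ ξ : Cfsg.IrrCharacter G, T x l (ξ : G → ℂ) * conj (T x m (ξ : G → ℂ)) =
      if l = m then 3 * (Nat.card V : ℂ) ^ 2 else 0 := by
  have h : ∀ w w' : V, ∑ ξ : Cfsg.IrrCharacter G, (ξ : G → ℂ) (x * w) * conj ((ξ : G → ℂ) (x * w')) =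
      if w = w' then (3 * Nat.card V : ℂ) else 0 := by
    intro w w'
    rw [second_orthogonality]
    by_cases e : w = w'
    · subst e
      rw [if_pos (IsConj.refl _), if_pos rfl, card_cent H w.2, Nat.cast_mul, Nat.cast_ofNat]
    · rw [if_neg e, if_neg fun hc => e (Subtype.ext (eq_of_isConj_mul H w.2 w'.2 hc))]
  simp only [T, map_sum, map_mul, sg_conj H, Finset.sum_mul, Finset.mul_sum]
  rw [Finset.sum_comm]
  calc _ = ∑ w : V, ∑ w' : V, sg l w' * sg m w *
        (if w' = w then (3 * Nat.card V : ℂ) else 0) := by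
        refine Finset.sum_congr rfl fun w _ => ?_
        rw [Finset.sum_comm]
        refine Finset.sum_congr rfl fun w' _ => ?_
        rw [← h, Finset.mul_sum]
        exact Finset.sum_congr rfl fun ξ _ => by ring
    _ = ∑ w : V, sg l w * sg m w * (3 * Nat.card V : ℂ) := by simp
    _ = _ := by rw [← Finset.sum_mul, sum_sg_mul H]; split_ifs <;> ring

/-- Orthogonality against a column outside `x V`. -/
theorem sum_mul_conj_T (H : Hyp x V) (l : V →* ℂˣ) {g : G} (hg : ∀ w : V, ¬ IsConj g (x * w)) :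
    ∑ ξ : Cfsg.IrrCharacter G, (ξ : G → ℂ) g * conj (T x l (ξ : G → ℂ)) = 0 := by
  simp only [T, map_sum, map_mul, sg_conj H, Finset.mul_sum]
  rw [Finset.sum_comm]
  refine Finset.sum_eq_zero fun w _ => ?_
  rw [Finset.sum_congr rfl (g := fun ξ : Cfsg.IrrCharacter G =>
    sg l w * ((ξ : G → ℂ) g * conj ((ξ : G → ℂ) (x * w)))) fun ξ _ => by ring, ← Finset.mul_sum,
    second_orthogonality, if_neg (hg w), mul_zero]

theorem not_conj_of_order (H : Hyp x V) {g : G} (hg : ¬ 3 ∣ orderOf g ∨ ¬ orderOf g ∣ 6) (w : V) :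
    ¬ IsConj g (x * w) := by
  intro h
  obtain ⟨c, hc⟩ := isConj_iff.1 h
  have h1 : orderOf (x * (w : G)) = orderOf g := by
    rw [← hc]
    exact orderOf_injective (MulAut.conj c).toMonoidHom (MulAut.conj c).injective g
  have h2 := orderOf_three_dvd H w.2
  rw [h1] at h2
  exact hg.elim (fun h => h h2.1) (fun h => h h2.2)

/-- The integrality of the class multiplication. -/
theorem three_dvd_sum [Fintype G] (H : Hyp x V) {q : ℕ} (hq : Nat.card G = 3 * q) {a b : G}
    (ha : Commute x a) (hb : Commute x b) (c : G) :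
    ∃ k : ℤ, (q : ℂ) * ∑ ξ : Cfsg.IrrCharacter G,
      (ξ : G → ℂ) a * (ξ : G → ℂ) b * conj ((ξ : G → ℂ) c) / (ξ : G → ℂ) 1 = 3 * (k : ℂ) := by
  have h3 : ∀ {a : G}, Commute x a → 3 ∣ Nat.card (centralizer ({a} : Set G)) := fun {a} ha => by
    have := orderOf_dvd_natCard (⟨x, mem_centralizer_singleton_iff.2 ha.eq⟩ : centralizer ({a} : Set G))
    rwa [Subgroup.orderOf_mk, H.ord] at this
  obtain ⟨ka, hka⟩ := h3 ha
  obtain ⟨kb, hkb⟩ := h3 hb
  have e := class_mult_formula a b c
  have ea : (Nat.card {g : G // IsConj a g} : ℂ) * (3 * ka) = 3 * q := by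
    exact_mod_cast (by rw [← hka, card_isConj_mul, hq] :
      Nat.card {g : G // IsConj a g} * (3 * ka) = 3 * q)
  have eb : (Nat.card {g : G // IsConj b g} : ℂ) * (3 * kb) = 3 * q := by
    exact_mod_cast (by rw [← hkb, card_isConj_mul, hq] :
      Nat.card {g : G // IsConj b g} * (3 * kb) = 3 * q)
  set S := ∑ ξ : Cfsg.IrrCharacter G,
      (ξ : G → ℂ) a * (ξ : G → ℂ) b * conj ((ξ : G → ℂ) c) / (ξ : G → ℂ) 1
  set n := Nat.card {p : G × G // IsConj a p.1 ∧ IsConj b p.2 ∧ p.1 * p.2 = c}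
  refine ⟨(n * ka * kb : ℕ), ?_⟩
  have hG : (Nat.card G : ℂ) ≠ 0 := Nat.cast_ne_zero.2 Nat.card_pos.ne'
  have hq' : (Nat.card G : ℂ) = 3 * q := by exact_mod_cast hq
  rw [hq'] at hG e
  have e' : (3 * q : ℂ) * n = (Nat.card {g : G // IsConj a g} : ℂ) *
      (Nat.card {g : G // IsConj b g} : ℂ) * S := by
    have hq0 : (q : ℂ) ≠ 0 := right_ne_zero_of_mul hG
    rw [e]; field_simp
  push_cast
  apply mul_left_cancel₀ hG
  linear_combination (-3 * ka * kb : ℂ) * e' +
    (-(S * (Nat.card {g : G // IsConj b g} : ℂ) * kb)) * ea + (-(S * q)) * eb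

end Cfsg.Lib.ThreeFour.CharTh
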