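import Mathlib
import Cfsg.Agent.ThreeFour.Chars.Coeff
import Cfsg.Agent.Small.FourPQ.Tools
import Cfsg.Agent.GWDihedral.Ident.DegTwo
import Cfsg.Agent.Chars.LargestDegreeTools

/-!
# The three characters attached to the trivial linear character
-/

set_option autoImplicit false

namespace Cfsg.Lib.ThreeFour.CharTh

open Subgroup Cfsg.Lib.Chars
open scoped ComplexConjugate _root_.Classical

universe u

variable {G : Type u} [Group G] [Finite G] {x : G} {V : Subgroup G}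

/-- The value at an involution of a non-principal character. -/
theorem inv_value (S : Setting x V) (ξ : Cfsg.IrrCharacter G) (hξ : ξ ≠ principal G) {t : G}
    (ht : orderOf t = 2) : ∃ c : ℕ, 0 < c ∧ 2 * c < deg (ξ : G → ℂ) ∧
      (ξ : G → ℂ) t = (((deg (ξ : G → ℂ) : ℤ) - 4 * c : ℤ) : ℂ) := by
  haveI := S.simple
  letI := Fintype.ofFinite G
  have hnc := not_comm S
  have ht1 : t ≠ 1 := fun e => by rw [e, orderOf_one] at ht; omega
  obtain ⟨n, ρ, hρ, hρc⟩ := id ξ.2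
  have hdn : deg (ξ : G → ℂ) = n := by rw [← hρc, deg_character, Module.finrank_fin_fun]
  have hdet : LinearMap.det (ρ t) = 1 := congrArg Units.val
    (Cfsg.Lib.Small.eq_one_of_monoidHom hnc
      ((Units.map (LinearMap.det (A := ℂ) (M := Fin n → ℂ))).comp ρ.toHomUnits) t)
  obtain ⟨c, hc, hval⟩ := involution_value ρ (ht ▸ pow_orderOf_eq_one t) hdet
  have hval' : (ξ : G → ℂ) t = (((deg (ξ : G → ℂ) : ℤ) - 4 * c : ℤ) : ℂ) := by
    rw [← hρc, hval, deg_character, Module.finrank_fin_fun]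
    push_cast; ring
  refine ⟨c, Nat.pos_of_ne_zero fun h0 => ht1 ?_, lt_of_le_of_ne (hdn ▸ hc) fun heq => ht1 ?_, hval'⟩
  · refine Cfsg.Lib.Small.FourPQ.faithful hnc hξ ?_
    rw [hval', h0, irr_apply_one_eq_deg]
    simp
  · have hcC : (n : ℂ) = 2 * (c : ℂ) := by
      have : n = 2 * c := by omega
      exact_mod_cast this
    have hn : ‖ρ.character t‖ = (Module.finrank ℂ (Fin n → ℂ) : ℝ) := by
      rw [Module.finrank_fin_fun, hval, show (n : ℂ) - 4 * (c : ℂ) = -(n : ℂ) by linear_combination 2 * hcC,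
        norm_neg, Complex.norm_natCast]
    obtain ⟨ω, hω, -⟩ := scalar_of_norm_character_eq ρ t hn
    have hcen : t ∈ Subgroup.center G := by
      rw [Subgroup.mem_center_iff]
      intro g
      refine mul_inv_eq_iff_eq_mul.1 (mul_inv_eq_one.1 (Cfsg.Lib.Small.FourPQ.faithful hnc hξ
        (g := g * t * g⁻¹ * t⁻¹) ?_))
      have h1 : ρ t * ρ t⁻¹ = 1 := by rw [← map_mul, mul_inv_cancel, map_one]
      have h2 : ρ g * ρ g⁻¹ = 1 := by rw [← map_mul, mul_inv_cancel, map_one]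
      have h3 : ρ g * ρ t = ρ t * ρ g := by rw [hω]; ext w; simp
      rw [← hρc]
      simp only [Representation.character, map_mul, h3, mul_assoc (ρ t), h2, mul_one, h1, map_one]
    rwa [Cfsg.Lib.Small.center_eq_bot_of_not_comm hnc, Subgroup.mem_bot] at hcen

variable [Fintype V]

omit [Finite G] in
theorem T_one (f : G → ℂ) : T x (1 : V →* ℂˣ) f = ∑ w : V, f (x * w) := by simp [T, sg]

theorem real_one (S : Setting x V) {f : G → ℂ} (hf : Cfsg.IsClassFunction G f) :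
    ∑ w : V, sg (1 : V →* ℂˣ) w * f (x⁻¹ * w) = T x (1 : V →* ℂˣ) f := by
  obtain ⟨n, hn⟩ := exists_inverts S
  rw [T_one]
  simp only [sg, MonoidHom.one_apply, Units.val_one, one_mul]
  have hinj : Function.Injective
      (fun w : V => (⟨n * w * n⁻¹, conj_mem S.hyp hn w.2⟩ : V)) := fun a b h => by
    have h1 := congrArg Subtype.val h
    simp only [mul_left_inj, mul_right_inj] at h1
    exact Subtype.ext h1
  rw [← (Finite.injective_iff_bijective.1 hinj).sum_comp (fun w : V => f (x⁻¹ * w))]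
  refine Finset.sum_congr rfl fun w _ => ?_
  rw [← hf (x * w) n]
  congr 1
  rw [← hn]
  group

theorem coeff_one (S : Setting x V) (ξ : Cfsg.IrrCharacter G) :
    ∃ a M : ℤ, T x (1 : V →* ℂˣ) (ξ : G → ℂ) = (Nat.card V : ℂ) * a ∧
      U (1 : V →* ℂˣ) (ξ : G → ℂ) = (Nat.card V : ℂ) * M ∧ (3 : ℤ) ∣ M - a :=
  exists_coeff S.hyp (isCharacter_of_irr ξ.2) 1 (real_one S (isClassFunction_irr ξ))

theorem T_one_principal : T x (1 : V →* ℂˣ) (principal G : G → ℂ) = (Nat.card V : ℂ) := by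
  rw [T_one]
  simp [principal]

/-- The characters with non-zero coefficient at the trivial linear character. -/
structure Fam (x : G) (V : Subgroup G) [Fintype V] (χ ψ : Cfsg.IrrCharacter G) (e e' : ℤ) : Prop where
  ne₁ : χ ≠ principal G
  ne₂ : ψ ≠ principal G
  ne : χ ≠ ψ
  sq₁ : e * e = 1
  sq₂ : e' * e' = 1
  val₁ : T x (1 : V →* ℂˣ) (χ : G → ℂ) = (Nat.card V : ℂ) * e
  val₂ : T x (1 : V →* ℂˣ) (ψ : G → ℂ) = (Nat.card V : ℂ) * e'
  other : ∀ ξ, ξ ≠ principal G → ξ ≠ χ → ξ ≠ ψ → T x (1 : V →* ℂˣ) (ξ : G → ℂ) = 0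

theorem Fam.symm {χ ψ : Cfsg.IrrCharacter G} {e e' : ℤ} (h : Fam x V χ ψ e e') : Fam x V ψ χ e' e :=
  ⟨h.ne₂, h.ne₁, h.ne.symm, h.sq₂, h.sq₁, h.val₂, h.val₁, fun ξ a b c => h.other ξ a c b⟩

theorem exists_fam (S : Setting x V) : ∃ χ ψ e e', Fam x V χ ψ e e' := by
  choose a M ha hM hd using coeff_one S
  have hv : (Nat.card V : ℂ) ≠ 0 := Nat.cast_ne_zero.2 Nat.card_pos.ne'
  have h3 : ∑ ξ : Cfsg.IrrCharacter G, a ξ * a ξ = 3 := by
    have h := sum_T_conj S.hyp (1 : V →* ℂˣ) 1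
    simp only [ha, map_mul, Complex.conj_natCast, map_intCast, if_pos rfl] at h
    rw [Finset.sum_congr rfl (g := fun ξ => (Nat.card V : ℂ) ^ 2 * ((a ξ : ℂ) * a ξ))
      fun ξ _ => by ring, ← Finset.mul_sum, mul_comm (3 : ℂ)] at h
    have h' := mul_left_cancel₀ (pow_ne_zero 2 hv) h
    exact_mod_cast h'
  have hone : a (principal G) = 1 := by
    have := ha (principal G)
    rw [T_one_principal] at this
    exact_mod_cast (mul_right_eq_self₀.1 this.symm).resolve_right hv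
  have hle : ∀ ξ, a ξ = 0 ∨ a ξ * a ξ = 1 := fun ξ => by
    have h1 : a ξ * a ξ ≤ 3 := h3 ▸ Finset.single_le_sum (f := fun ξ => a ξ * a ξ)
      (fun i _ => mul_self_nonneg _) (Finset.mem_univ ξ)
    have h2 : -1 ≤ a ξ ∧ a ξ ≤ 1 := ⟨by nlinarith, by nlinarith⟩
    rcases (show a ξ = -1 ∨ a ξ = 0 ∨ a ξ = 1 by omega) with h | h | h <;> simp [h]
  set A := Finset.univ.filter fun ξ : Cfsg.IrrCharacter G => a ξ ≠ 0
  have hcard : A.card = 3 := by
    have : ∑ ξ : Cfsg.IrrCharacter G, a ξ * a ξ = (A.card : ℤ) := by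
      rw [Finset.natCast_card_filter]
      refine Finset.sum_congr rfl fun ξ _ => ?_
      rcases hle ξ with h | h
      · simp [h]
      · rw [h, if_pos fun e => by rw [e] at h; norm_num at h]
    omega
  have hpA : principal G ∈ A := by simp [A, hone]
  obtain ⟨χ, ψ, hne, hpair⟩ := Finset.card_eq_two.1 (show (A.erase (principal G)).card = 2 by
    rw [Finset.card_erase_of_mem hpA, hcard])
  have hχ : χ ∈ A.erase (principal G) := by simp [hpair]
  have hψ : ψ ∈ A.erase (principal G) := by simp [hpair]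
  refine ⟨χ, ψ, a χ, a ψ, Finset.ne_of_mem_erase hχ, Finset.ne_of_mem_erase hψ, hne,
    (hle χ).resolve_left (Finset.mem_filter.1 (Finset.mem_of_mem_erase hχ)).2,
    (hle ψ).resolve_left (Finset.mem_filter.1 (Finset.mem_of_mem_erase hψ)).2, ha χ, ha ψ, ?_⟩
  intro ξ h1 h2 h3
  rw [ha]
  by_cases h0 : a ξ = 0
  · simp [h0]
  · exfalso
    have : ξ ∈ A.erase (principal G) := by simp [A, h1, h0]
    rw [hpair] at this
    simp [h2, h3] at this

variable {χ ψ : Cfsg.IrrCharacter G} {e e' : ℤ}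

/-- A sum against the first column has three terms. -/
theorem Fam.sum_eq (h : Fam x V χ ψ e e') (f : Cfsg.IrrCharacter G → ℂ) :
    ∑ ξ, f ξ * conj (T x (1 : V →* ℂˣ) (ξ : G → ℂ)) =
      (Nat.card V : ℂ) * (f (principal G) + e * f χ + e' * f ψ) := by
  rw [← Finset.sum_subset (Finset.subset_univ ({principal G, χ, ψ} : Finset (Cfsg.IrrCharacter G)))
    (fun ξ _ hξ => by
      simp only [Finset.mem_insert, Finset.mem_singleton, not_or] at hξ
      rw [h.other ξ hξ.1 hξ.2.1 hξ.2.2, map_zero, mul_zero]),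
    Finset.sum_insert (by simp [h.ne₁.symm, h.ne₂.symm]), Finset.sum_pair h.ne,
    T_one_principal, h.val₁, h.val₂]
  simp only [map_mul, Complex.conj_natCast, map_intCast]
  ring

theorem Fam.rel (h : Fam x V χ ψ e e') (H : Hyp x V) {g : G}
    (hg : ¬ 3 ∣ orderOf g ∨ ¬ orderOf g ∣ 6) :
    1 + (e : ℂ) * (χ : G → ℂ) g + (e' : ℂ) * (ψ : G → ℂ) g = 0 := by
  have h1 := sum_mul_conj_T H (1 : V →* ℂˣ) (not_conj_of_order H hg)
  rw [h.sum_eq] at h1
  exact (mul_eq_zero.1 h1).resolve_left (Nat.cast_ne_zero.2 Nat.card_pos.ne')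

theorem Fam.rel_one (h : Fam x V χ ψ e e') (H : Hyp x V) :
    1 + e * (deg (χ : G → ℂ) : ℤ) + e' * (deg (ψ : G → ℂ) : ℤ) = 0 := by
  have h1 := h.rel H (g := (1 : G)) (Or.inl (by rw [orderOf_one]; norm_num))
  rw [irr_apply_one_eq_deg, irr_apply_one_eq_deg] at h1
  exact_mod_cast h1

/-- The signed value of the second character at an involution. -/
theorem Fam.value (h : Fam x V χ ψ e e') (S : Setting x V) {t : G} (ht : orderOf t = 2) :
    ∃ k : ℤ, (χ : G → ℂ) t = ((e * k : ℤ) : ℂ) ∧ (ψ : G → ℂ) t = ((e' * (-1 - k) : ℤ) : ℂ) ∧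
      |k| < deg (χ : G → ℂ) ∧ (4 : ℤ) ∣ e * (deg (χ : G → ℂ) : ℤ) - k := by
  obtain ⟨c, hc0, hc, hval⟩ := inv_value S χ h.ne₁ ht
  have hrel := h.rel S.hyp (g := t) (Or.inl (by rw [ht]; norm_num))
  have q1 : (e : ℂ) * e = 1 := by exact_mod_cast h.sq₁
  have q2 : (e' : ℂ) * e' = 1 := by exact_mod_cast h.sq₂
  refine ⟨e * ((deg (χ : G → ℂ) : ℤ) - 4 * c), ?_, ?_, ?_, ⟨e * c, by ring⟩⟩
  · rw [hval, ← mul_assoc, h.sq₁, one_mul]
  · push_cast at hval ⊢
    linear_combination (e' : ℂ) * hrel - (e' : ℂ) * (e : ℂ) * hval - (ψ : G → ℂ) t * q2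
  · have : |e| = 1 := by
      rcases Int.mul_eq_one_iff_eq_one_or_neg_one.1 h.sq₁ with ⟨a, -⟩ | ⟨a, -⟩ <;> simp [a]
    rw [abs_mul, this, one_mul, abs_lt]
    constructor <;> omega

/-- The sum of the class multiplication constants over the coset. -/
theorem Fam.count [Fintype G] (h : Fam x V χ ψ e e') (S : Setting x V) {s t : G}
    (hs : orderOf s = 2) (ht : orderOf t = 2) {ks kt : ℤ}
    (hks : (χ : G → ℂ) s = ((e * ks : ℤ) : ℂ)) (hks' : (ψ : G → ℂ) s = ((e' * (-1 - ks) : ℤ) : ℂ))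
    (hkt : (χ : G → ℂ) t = ((e * kt : ℤ) : ℂ)) (hkt' : (ψ : G → ℂ) t = ((e' * (-1 - kt) : ℤ) : ℂ)) :
    ((∑ w : V, Nat.card {p : G × G // IsConj s p.1 ∧ IsConj t p.2 ∧ p.1 * p.2 = x * w} : ℕ) : ℂ) *
      ((cen s : ℂ) * cen t * ((e * deg (χ : G → ℂ) : ℤ) * (e * deg (χ : G → ℂ) + 1 : ℤ))) =
    (Nat.card V : ℂ) * Nat.card G *
      (((e * deg (χ : G → ℂ) - ks) * (e * deg (χ : G → ℂ) - kt) : ℤ) : ℂ) := by
  push_cast
  simp only [class_mult_formula]
  rw [← Finset.mul_sum,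
    Finset.sum_comm, Finset.sum_congr rfl (g := fun ξ : Cfsg.IrrCharacter G =>
      ((ξ : G → ℂ) s * (ξ : G → ℂ) t / (ξ : G → ℂ) 1) * conj (T x (1 : V →* ℂˣ) (ξ : G → ℂ)))
      fun ξ _ => by
        rw [T_one, map_sum, Finset.mul_sum]
        exact Finset.sum_congr rfl fun w _ => by ring,
    h.sum_eq]
  simp only [irr_apply_one_eq_deg, show ∀ g, (principal G : G → ℂ) g = 1 from fun _ => rfl,
    show deg (principal G : G → ℂ) = 1 from by simp [deg, principal], hks, hks', hkt, hkt']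
  have hr : (1 : ℂ) + e * (deg (χ : G → ℂ) : ℂ) + e' * (deg (ψ : G → ℂ) : ℂ) = 0 := by
    exact_mod_cast h.rel_one S.hyp
  have q1 : (e : ℂ) * e = 1 := by exact_mod_cast h.sq₁
  have q2 : (e' : ℂ) * e' = 1 := by exact_mod_cast h.sq₂
  have hG : (Nat.card G : ℂ) ≠ 0 := Nat.cast_ne_zero.2 Nat.card_pos.ne'
  have ds : (Nat.card {g : G // IsConj s g} : ℂ) * cen s = Nat.card G := by
    exact_mod_cast card_isConj_mul s
  have dt : (Nat.card {g : G // IsConj t g} : ℂ) * cen t = Nat.card G := by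
    exact_mod_cast card_isConj_mul t
  have hdχ : (deg (χ : G → ℂ) : ℂ) ≠ 0 := Nat.cast_ne_zero.2 (deg_irr_pos χ).ne'
  have hdψ : (deg (ψ : G → ℂ) : ℂ) ≠ 0 := Nat.cast_ne_zero.2 (deg_irr_pos ψ).ne'
  set A : ℂ := (deg (χ : G → ℂ) : ℂ)
  set B : ℂ := (deg (ψ : G → ℂ) : ℂ)
  have hB : (e * A + 1) / B = -e' := by
    rw [div_eq_iff hdψ]; linear_combination hr
  push_cast
  calc _ = ((Nat.card {g : G // IsConj s g} : ℂ) * cen s) *
        ((Nat.card {g : G // IsConj t g} : ℂ) * cen t) / Nat.card G * (Nat.card V : ℂ) *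
        ((e * A) * (e * A + 1) + (e * e) * (e * e) * ks * kt * (A / A) * (e * A + 1) +
          (e' * e') * e' * (-1 - ks) * (-1 - kt) * (e * A) * ((e * A + 1) / B)) := by ring
    _ = _ := by
      rw [ds, dt, hB, div_self hdχ, mul_div_assoc, div_self hG, q1, q2]
      linear_combination (Nat.card V : ℂ) * (Nat.card G) *
        (-((-1 - (ks : ℂ)) * (-1 - kt) * (e * A))) * q2

theorem Fam.exists_pair [Fintype G] (h : Fam x V χ ψ e e') (S : Setting x V) {t : G}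
    (ht : orderOf t = 2) :
    ∃ w : V, ∃ y y' : G, IsConj t y ∧ IsConj t y' ∧ y * y' = x * w := by
  by_contra hno
  push Not at hno
  obtain ⟨k, hk, hk', hlt, -⟩ := h.value S ht
  have hc := h.count S ht ht hk hk' hk hk'
  rw [Finset.sum_eq_zero fun w _ => ?_, Nat.cast_zero, zero_mul] at hc
  · have hne : e * (deg (χ : G → ℂ) : ℤ) - k ≠ 0 := fun h0 => by
      have : |k| = deg (χ : G → ℂ) := by
        rw [← sub_eq_zero.1 h0, abs_mul]
        rcases Int.mul_eq_one_iff_eq_one_or_neg_one.1 h.sq₁ with ⟨a, -⟩ | ⟨a, -⟩ <;> simp [a]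
      omega
    have := hc.symm
    simp only [mul_eq_zero, Int.cast_eq_zero, Nat.cast_eq_zero] at this
    rcases this with (a | a) | (a | a)
    · exact Nat.card_pos.ne' a
    · exact Nat.card_pos.ne' a
    · exact hne a
    · exact hne a
  · haveI : IsEmpty {p : G × G // IsConj t p.1 ∧ IsConj t p.2 ∧ p.1 * p.2 = x * w} :=
      ⟨fun p => hno w p.1.1 p.1.2 p.2.1 p.2.2.1 p.2.2.2⟩
    exact Nat.card_of_isEmpty

end Cfsg.Lib.ThreeFour.CharTh
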