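import Mathlib
import Cfsg.Agent.ThreeFour.Chars.Family

/-!
# An involution inverting `x` and centralising the small factor
-/

set_option autoImplicit false

namespace Cfsg.Lib.ThreeFour.CharTh

open Subgroup Cfsg.Lib.Chars
open scoped Pointwise _root_.Classical

universe u

variable {G : Type u} [Group G] {x : G} {V : Subgroup G}

theorem inv_xp (H : Hyp x V) {τ : G} (hτ : τ * x * τ⁻¹ = x⁻¹) (k : ZMod 3) :
    τ * xp x k * τ⁻¹ = xp x (-k) := by
  rw [xp_neg H, xp, ← conj_pow, hτ, inv_pow]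

theorem orderOf_two_sq {t : G} (ht : orderOf t = 2) : t * t = 1 := by
  rw [← pow_two, ← ht, pow_orderOf_eq_one]

/-- The elements inverting `x`. -/
theorem exists_form (H : Hyp x V) {τ y : G} (hτ2 : τ * τ = 1) (hτ : τ * x * τ⁻¹ = x⁻¹)
    (hy : y * x * y⁻¹ = x⁻¹) :
    ∃ k : ZMod 3, ∃ w ∈ V, y = τ * (xp x k * w) ∧ (y * y = 1 → τ * w * τ⁻¹ = w) := by
  have hτi : τ⁻¹ = τ := inv_eq_of_mul_eq_one_right hτ2
  have hc : Commute (τ * y) x := by
    refine mul_inv_eq_iff_eq_mul.1 ?_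
    rw [show τ * y * x * (τ * y)⁻¹ = τ * (y * x * y⁻¹) * τ⁻¹ by group, hy,
      show τ * x⁻¹ * τ⁻¹ = (τ * x * τ⁻¹)⁻¹ by group, hτ, inv_inv]
  obtain ⟨k, w, hw, he⟩ := exists_xp H hc
  have hy' : y = τ * (xp x k * w) := by rw [← he, ← mul_assoc, hτ2, one_mul]
  refine ⟨k, w, hw, hy', fun h2 => ?_⟩
  have hmem := conj_mem H hτ hw
  rw [hy'] at h2
  have h3 : τ * w * τ⁻¹ * w = 1 := by
    calc τ * w * τ⁻¹ * w = (xp x (-k) * (τ * w * τ⁻¹)) * (xp x k * w) := by
          rw [(comm_xp H hmem k).mul_mul_mul_comm, ← xp_add H, neg_add_cancel, xp_zero, one_mul]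
      _ = (τ * xp x k * τ⁻¹) * (τ * w * τ⁻¹) * (xp x k * w) := by rw [inv_xp H hτ]
      _ = τ * (xp x k * w) * τ⁻¹ * (xp x k * w) := by group
      _ = 1 := by rw [hτi, mul_assoc (τ * (xp x k * w))]; exact h2
  rw [eq_inv_of_mul_eq_one_left h3, sq_inv H hw]

theorem isConj_shift (H : Hyp x V) {τ : G} (hτ : τ * x * τ⁻¹ = x⁻¹) {w : G} (hw : w ∈ V)
    (k : ZMod 3) : IsConj (τ * w) (τ * (xp x k * w)) := by
  refine isConj_iff.2 ⟨xp x k, ?_⟩
  rw [← xp_neg H]
  have e1 : xp x k * τ = τ * xp x (-k) := by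
    have := inv_xp H hτ (-k)
    rw [neg_neg] at this
    rw [← this]; group
  calc xp x k * (τ * w) * xp x (-k) = (xp x k * τ) * (w * xp x (-k)) := by group
    _ = τ * (xp x (-k) * (xp x (-k) * w)) := by rw [e1, (comm_xp H hw (-k)).eq, mul_assoc]
    _ = τ * (xp x k * w) := by
      rw [← mul_assoc (xp x (-k)), ← xp_add H]
      have : ∀ j : ZMod 3, -j + -j = j := by decide
      rw [this]

/-- Fusion in `V` is controlled by the normaliser of the cyclic group on `x`. -/
theorem fusion [Finite G] (H : Hyp x V) {a b : G} (ha : a ∈ V) (hb : b ∈ V) (h : IsConj a b) :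
    a = b ∨ ∃ n : G, n * x * n⁻¹ = x⁻¹ ∧ n * a * n⁻¹ = b := by
  obtain ⟨g, hg⟩ := isConj_iff.1 h
  set C := centralizer ({b} : Set G)
  obtain ⟨P, hP⟩ := sylow_eq H
  have hPC : (P : Subgroup G) ≤ C := by
    rw [hP, zpowers_le, mem_centralizer_singleton_iff]
    exact (H.comm b hb).symm.eq
  have hgx : g * x * g⁻¹ ∈ C := by
    rw [mem_centralizer_singleton_iff]
    have : Commute (g * x * g⁻¹) (g * a * g⁻¹) := (Commute.conj_iff g).2 (H.comm a ha).symm
    rw [hg] at this
    exact this.eq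
  have hp : IsPGroup 3 (zpowers (⟨g * x * g⁻¹, hgx⟩ : C)) := IsPGroup.of_card (n := 1) (by
    rw [Nat.card_zpowers, Subgroup.orderOf_mk, pow_one, show g * x * g⁻¹ = (MulAut.conj g) x from rfl,
      MulEquiv.orderOf_eq, H.ord])
  obtain ⟨Q, hQ⟩ := hp.exists_le_sylow
  obtain ⟨k, hk⟩ := MulAction.exists_smul_eq C Q (P.subtype hPC)
  have hmem : (⟨g * x * g⁻¹, hgx⟩ : C) ∈ (Q : Subgroup C) := hQ (mem_zpowers _)
  have h2 : k * ⟨g * x * g⁻¹, hgx⟩ * k⁻¹ ∈ ((P.subtype hPC) : Subgroup C) := by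
    rw [← hk]
    change _ ∈ MulAut.conj k • (Q : Subgroup C)
    exact smul_mem_pointwise_smul _ (MulAut.conj k) _ hmem
  rw [Sylow.coe_subtype, mem_subgroupOf, hP] at h2
  push_cast at h2
  set n := (k : G) * g with hn
  have h3 : n * x * n⁻¹ ∈ zpowers x := by rw [hn, mul_inv_rev]; simpa [mul_assoc] using h2
  have h4 : n * a * n⁻¹ = b := by
    rw [hn, show (k : G) * g * a * ((k : G) * g)⁻¹ = (k : G) * (g * a * g⁻¹) * (k : G)⁻¹ by group, hg,
      mem_centralizer_singleton_iff.1 k.2, mul_inv_cancel_right]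
  obtain ⟨j, hj⟩ := (mem_zpowers_iff_xp H).1 h3
  have h5 : ∀ i : ZMod 3, i = 0 ∨ i = 1 ∨ i = -1 := by decide
  rcases h5 j with e | e | e
  · rw [e, xp_zero] at hj
    exact absurd (conj_eq_one_iff.1 hj.symm) (x_ne_one H)
  · left
    rw [e, xp_one] at hj
    have hnx : Commute n x := mul_inv_eq_iff_eq_mul.1 hj.symm
    rwa [(commute_cent H hnx (H.comm a ha)).eq, mul_inv_cancel_right] at h4
  · exact Or.inr ⟨n, by rw [← hj, e, xp_neg H, xp_one], h4⟩

/-- An involution inverting `x` and centralising `V`, and no fusion in `V`. -/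
theorem exists_tau [Finite G] (S : Setting x V) :
    ∃ τ : G, Tau x V τ ∧ ∀ a ∈ V, ∀ b ∈ V, IsConj a b → a = b := by
  have H := S.hyp
  letI := Fintype.ofFinite G
  letI := Fintype.ofFinite V
  obtain ⟨χ, ψ, e, e', hF⟩ := exists_fam S
  have hinv : ∀ t : G, orderOf t = 2 → ∃ y, IsConj t y ∧ y * y = 1 ∧ y * x * y⁻¹ = x⁻¹ := by
    intro t ht
    obtain ⟨w, y, y', hy, hy', he⟩ := hF.exists_pair S ht
    have hsq : ∀ z, IsConj t z → z * z = 1 := fun z hz => by
      obtain ⟨c, rfl⟩ := isConj_iff.1 hz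
      rw [show c * t * c⁻¹ * (c * t * c⁻¹) = c * (t * t) * c⁻¹ by group, orderOf_two_sq ht, mul_one,
        mul_inv_cancel]
    have h1 : y * (x * (w : G)) * y⁻¹ = (x * (w : G))⁻¹ := by
      rw [← he, mul_inv_rev, inv_eq_of_mul_eq_one_right (hsq y hy),
        inv_eq_of_mul_eq_one_right (hsq y' hy'), ← mul_assoc, hsq y hy, one_mul]
    refine ⟨y, hy, hsq y hy, ?_⟩
    have h2 := congrArg (fun t => t ^ 4) h1
    simp only [conj_pow, inv_pow, pow_four H w.2] at h2
    exact h2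
  obtain ⟨w₀, hw₀⟩ : ∃ w : V, w ≠ 1 := by
    have : Nontrivial V := Finite.one_lt_card_iff_nontrivial.1 (by rcases H.card with e | e <;> omega)
    exact exists_ne 1
  have ht₀ : orderOf (w₀ : G) = 2 := orderOf_eq_prime (by rw [pow_two]; exact H.sq _ w₀.2)
    fun e => hw₀ (Subtype.ext e)
  obtain ⟨τ, -, hτ2, hτ⟩ := hinv _ ht₀
  have hfix : ∀ a ∈ V, τ * a * τ⁻¹ = a := by
    by_contra hno
    push Not at hno
    obtain ⟨a, ha, hne⟩ := hno
    have hτi : τ⁻¹ = τ := inv_eq_of_mul_eq_one_right hτ2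
    set a' := τ * a * τ⁻¹ with ha'
    have ha'V : a' ∈ V := conj_mem H hτ ha
    have hback : τ * a' * τ⁻¹ = a := by
      rw [ha', hτi, ← mul_assoc, ← mul_assoc, hτ2, one_mul, mul_assoc, hτ2, mul_one]
    set z := a * a' with hz
    have hzV : z ∈ V := V.mul_mem ha ha'V
    have hzfix : τ * z * τ⁻¹ = z := by
      rw [hz, show τ * (a * a') * τ⁻¹ = (τ * a * τ⁻¹) * (τ * a' * τ⁻¹) by group, ← ha', hback,
        (V_comm H ha ha'V).eq]
    have haz : a * z = a' := by rw [hz, ← mul_assoc, H.sq a ha, one_mul]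
    have hz1 : z ≠ 1 := fun h => hne (by rw [← haz, h, mul_one])
    have ha1 : a ≠ 1 := fun h => hne (by rw [ha', h, mul_one, mul_inv_cancel])
    have hcases : ∀ w ∈ V, w = 1 ∨ w = a ∨ w = z ∨ w = a' := by
      intro w hw
      by_contra hc
      push Not at hc
      have hza : z ≠ a := fun h => ha1 (by
        have h2 := haz
        rw [h, H.sq a ha] at h2
        have h3 : τ * a * τ⁻¹ = 1 := h2.symm
        exact conj_eq_one_iff.1 h3)
      have ha'1 : a' ≠ 1 := fun h => ha1 (conj_eq_one_iff.1 h)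
      have hza' : z ≠ a' := fun h => ha1 (mul_right_cancel (h.trans (one_mul a').symm))
      have hsub : ({1, a, z, a', w} : Finset G) ⊆ (V : Set G).toFinset := by
        intro g hg
        simp only [Finset.mem_insert, Finset.mem_singleton] at hg
        rcases hg with rfl | rfl | rfl | rfl | rfl <;> simp [ha, hzV, ha'V, hw]
      have hle := Finset.card_le_card hsub
      rw [Finset.card_insert_of_notMem (by simp [Ne.symm ha1, Ne.symm hz1, Ne.symm ha'1, Ne.symm hc.1]),
        Finset.card_insert_of_notMem (by simp [Ne.symm hza, Ne.symm hne, Ne.symm hc.2.1]),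
        Finset.card_insert_of_notMem (by simp [hza', Ne.symm hc.2.2.1]),
        Finset.card_pair (Ne.symm hc.2.2.2), Set.toFinset_card,
        ← Nat.card_eq_fintype_card] at hle
      have hle' : 5 ≤ Nat.card V := hle
      rcases H.card with e | e <;> omega
    have hone : ∀ t : G, orderOf t = 2 → IsConj τ t := by
      intro t ht
      obtain ⟨y, hy, hy2, hyx⟩ := hinv t ht
      obtain ⟨k, w, hw, rfl, hfixw⟩ := exists_form H hτ2 hτ hyx
      refine IsConj.trans ?_ hy.symm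
      refine IsConj.trans ?_ (isConj_shift H hτ hw k)
      have hw' := hfixw hy2
      rcases hcases w hw with rfl | rfl | rfl | rfl
      · rw [mul_one]
      · exact absurd hw' hne
      · refine isConj_iff.2 ⟨a, ?_⟩
        calc a * τ * a⁻¹ = τ * ((τ * a * τ⁻¹) * a) := by
              rw [sq_inv H ha, hτi]
              simp only [← mul_assoc, hτ2, one_mul]
          _ = τ * z := by rw [← ha', hz, (V_comm H ha ha'V).eq]
      · rw [hback] at hw'
        exact absurd hw'.symm hne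
    have hord : ∀ w ∈ V, w ≠ 1 → orderOf w = 2 := fun w hw h =>
      orderOf_eq_prime (by rw [pow_two]; exact H.sq w hw) h
    have hfus : IsConj a z := (hone a (hord a ha ha1)).symm.trans (hone z (hord z hzV hz1))
    rcases fusion H ha hzV hfus with h | ⟨n, hn, hna⟩
    · exact ha1 (conj_eq_one_iff.1 (show τ * a * τ⁻¹ = 1 by rw [← ha', ← haz, ← h, H.sq a ha]))
    · obtain ⟨k, w, hw, he, -⟩ := exists_form H hτ2 hτ hn
      have hc : Commute (xp x k * w) a := by
        exact commute_cent H (Commute.mul_left ((Commute.refl x).pow_left _) (H.comm w hw)) (H.comm a ha)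
      have hna' : a' = z := by
        rw [← hna, he, ha', show τ * (xp x k * w) * a * (τ * (xp x k * w))⁻¹ =
          τ * ((xp x k * w) * a * (xp x k * w)⁻¹) * τ⁻¹ by group, hc.eq, mul_inv_cancel_right]
      exact ha1 (mul_right_cancel ((haz.trans hna').trans (one_mul z).symm))
  refine ⟨τ, ⟨hτ2, hτ, fun u hu => mul_inv_eq_iff_eq_mul.1 (hfix u hu)⟩, fun a ha b hb h => ?_⟩
  rcases fusion H ha hb h with h | ⟨n, hn, hna⟩
  · exact h
  · obtain ⟨k, w, hw, he, -⟩ := exists_form H hτ2 hτ hn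
    have hc : Commute (xp x k * w) a :=
      commute_cent H (Commute.mul_left ((Commute.refl x).pow_left _) (H.comm w hw)) (H.comm a ha)
    rw [← hna, he, show τ * (xp x k * w) * a * (τ * (xp x k * w))⁻¹ =
          τ * ((xp x k * w) * a * (xp x k * w)⁻¹) * τ⁻¹ by group, hc.eq, mul_inv_cancel_right,
      hfix a ha]

end Cfsg.Lib.ThreeFour.CharTh
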