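import Mathlib
import Cfsg.Agent.ThreeFour.Chars.Invert
import Cfsg.Agent.Chars.DefectZero

/-!
# The coefficients at all linear characters have disjoint supports
-/

set_option autoImplicit false

namespace Cfsg.Lib.ThreeFour.CharTh

open Subgroup Cfsg.Lib.Chars
open scoped ComplexConjugate _root_.Classical

universe u

variable {G : Type u} [Group G] [Finite G] {x : G} {V : Subgroup G} [Fintype V]

/-- The integral coefficients. -/
structure Table (x : G) (V : Subgroup G) [Fintype V]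
    (a M : (V →* ℂˣ) → Cfsg.IrrCharacter G → ℤ) : Prop where
  hyp : Hyp x V
  hT : ∀ l (ξ : Cfsg.IrrCharacter G), T x l (ξ : G → ℂ) = (Nat.card V : ℂ) * a l ξ
  hU : ∀ l (ξ : Cfsg.IrrCharacter G), U l (ξ : G → ℂ) = (Nat.card V : ℂ) * M l ξ
  congr : ∀ l ξ, (M l ξ : ZMod 3) = (a l ξ : ZMod 3)

theorem exists_table (S : Setting x V) {τ : G} (hτ : Tau x V τ) :
    ∃ a M, Table (G := G) x V a M := by
  have key : ∀ (l : V →* ℂˣ) (ξ : Cfsg.IrrCharacter G),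
      ∃ a M : ℤ, T x l (ξ : G → ℂ) = (Nat.card V : ℂ) * a ∧
      U l (ξ : G → ℂ) = (Nat.card V : ℂ) * M ∧ (3 : ℤ) ∣ M - a := fun l ξ => by
    refine exists_coeff S.hyp (isCharacter_of_irr ξ.2) l (Finset.sum_congr rfl fun w _ => ?_)
    congr 1
    rw [← isClassFunction_irr ξ (x * w) τ]
    congr 1
    rw [← hτ.conj, mul_assoc τ x τ⁻¹, show τ * (x * (w : G)) * τ⁻¹ = τ * x * ((w : G) * τ⁻¹) by group,
      mul_assoc τ x, ((hτ.fix _ w.2).symm.inv_right).eq]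
    group
  choose a M h1 h2 h3 using key
  refine ⟨a, M, S.hyp, h1, h2, fun l ξ => ?_⟩
  obtain ⟨k, hk⟩ := h3 l ξ
  have := congrArg (fun z : ℤ => (z : ZMod 3)) hk
  push_cast at this
  rw [show (3 : ZMod 3) = 0 from rfl, zero_mul, sub_eq_zero] at this
  exact this

variable {a M : (V →* ℂˣ) → Cfsg.IrrCharacter G → ℤ}

theorem cast_v_ne : (Nat.card V : ℂ) ≠ 0 := Nat.cast_ne_zero.2 Nat.card_pos.ne'

theorem Table.orth (D : Table x V a M) (l m : V →* ℂˣ) :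
    ∑ ξ : Cfsg.IrrCharacter G, a l ξ * a m ξ = if l = m then 3 else 0 := by
  have h := sum_T_conj D.hyp l m
  simp only [D.hT, map_mul, Complex.conj_natCast, map_intCast] at h
  rw [Finset.sum_congr rfl (g := fun ξ => (Nat.card V : ℂ) ^ 2 * ((a l ξ : ℂ) * a m ξ))
      fun ξ _ => by ring, ← Finset.mul_sum] at h
  split_ifs at h ⊢ with e
  · rw [mul_comm (3 : ℂ)] at h
    have h' := mul_left_cancel₀ (pow_ne_zero 2 cast_v_ne) h
    exact_mod_cast h'
  · have h' := (mul_eq_zero.1 h).resolve_left (pow_ne_zero 2 cast_v_ne)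
    exact_mod_cast h'

theorem Table.cases (D : Table x V a M) (l : V →* ℂˣ) (ξ : Cfsg.IrrCharacter G) :
    a l ξ = 0 ∨ a l ξ = 1 ∨ a l ξ = -1 := by
  have h1 : a l ξ * a l ξ ≤ 3 := by
    have := Finset.single_le_sum (f := fun ξ => a l ξ * a l ξ) (fun i _ => mul_self_nonneg _)
      (Finset.mem_univ ξ)
    rwa [D.orth, if_pos rfl] at this
  have h2 : -1 ≤ a l ξ ∧ a l ξ ≤ 1 := ⟨by nlinarith, by nlinarith⟩
  omega

theorem Table.exists_three (D : Table x V a M) (l : V →* ℂˣ) :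
    ∃ p q r, p ≠ q ∧ p ≠ r ∧ q ≠ r ∧ a l p ≠ 0 ∧ a l q ≠ 0 ∧ a l r ≠ 0 ∧
      ∀ ξ, ξ ≠ p → ξ ≠ q → ξ ≠ r → a l ξ = 0 := by
  set A := Finset.univ.filter fun ξ : Cfsg.IrrCharacter G => a l ξ ≠ 0
  have hcard : A.card = 3 := by
    have h : ∑ ξ : Cfsg.IrrCharacter G, a l ξ * a l ξ = (A.card : ℤ) := by
      rw [Finset.natCast_card_filter]
      refine Finset.sum_congr rfl fun ξ _ => ?_
      rcases D.cases l ξ with h | h | h <;> simp [h]
    rw [D.orth, if_pos rfl] at h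
    omega
  obtain ⟨p, q, r, h1, h2, h3, hA⟩ := Finset.card_eq_three.1 hcard
  have hm : ∀ ξ, ξ ∈ A ↔ a l ξ ≠ 0 := fun ξ => by simp [A]
  refine ⟨p, q, r, h1, h2, h3, (hm p).1 (by simp [hA]), (hm q).1 (by simp [hA]), (hm r).1 (by simp [hA]),
    fun ξ a b c => ?_⟩
  by_contra h0
  have := (hm ξ).2 h0
  rw [hA] at this
  simp [a, b, c] at this

theorem sum_of_three {ι R : Type*} [Fintype ι] [AddCommMonoid R] {p q r : ι} (h1 : p ≠ q)
    (h2 : p ≠ r) (h3 : q ≠ r) (f : ι → R) (h : ∀ i, i ≠ p → i ≠ q → i ≠ r → f i = 0) :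
    ∑ i, f i = f p + f q + f r := by
  rw [← Finset.sum_subset (Finset.subset_univ ({p, q, r} : Finset ι)) (fun i _ hi => by
      simp only [Finset.mem_insert, Finset.mem_singleton, not_or] at hi
      exact h i hi.1 hi.2.1 hi.2.2),
    Finset.sum_insert (by simp [h1, h2]), Finset.sum_pair h3, add_assoc]

theorem Table.not_three_dvd [Fintype G] (D : Table x V a M) {l : V →* ℂˣ} {ξ : Cfsg.IrrCharacter G}
    (h : a l ξ ≠ 0) : ¬ 3 ∣ deg (ξ : G → ℂ) := by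
  intro h3
  obtain ⟨q, hq, hq3⟩ := card_eq D.hyp
  have hT := D.hT l ξ
  have h0 : T x l (ξ : G → ℂ) = 0 := Finset.sum_eq_zero fun w _ => by
    rw [eq_zero_of_defect_zero ξ.2 Nat.prime_three (n := 1) ⟨q, by simpa using hq⟩
      (fun ⟨k, hk⟩ => hq3 ⟨k, by rw [hq] at hk; norm_num at hk; omega⟩) (by simpa using h3)
      (orderOf_three_dvd D.hyp w.2).1, mul_zero]
  rw [h0] at hT
  exact h (Int.cast_eq_zero.1 ((mul_eq_zero.1 hT.symm).resolve_left cast_v_ne))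

theorem v_mod_three (H : Hyp x V) : (Nat.card V : ZMod 3) ≠ 0 := by
  rcases H.card with e | e <;> rw [e] <;> decide

theorem Table.mixed [Fintype G] (D : Table x V a M) (l m : V →* ℂˣ) :
    ∑ ξ : Cfsg.IrrCharacter G,
      (a l ξ : ZMod 3) ^ 2 * (a m ξ : ZMod 3) * (deg (ξ : G → ℂ) : ZMod 3) = 0 := by
  obtain ⟨q, hq, hq3⟩ := card_eq D.hyp
  have hs : ∀ (l : V →* ℂˣ) (w : V), ∃ s : ℤ, sg l w = s := fun l w => by
    rcases sg_cases D.hyp l w with e | e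
    · exact ⟨1, by simp [e]⟩
    · exact ⟨-1, by simp [e]⟩
  choose s hs using hs
  have hint := fun u w w' : V => three_dvd_sum D.hyp hq (a := (u : G)) (b := (w : G))
    ((D.hyp.comm _ u.2).symm) ((D.hyp.comm _ w.2).symm) (x * (w' : G))
  choose k hk using hint
  set r : Cfsg.IrrCharacter G → ℤ :=
    fun ξ => if a m ξ = 0 then 0 else ((q / deg (ξ : G → ℂ) : ℕ) : ℤ) with hr
  have hdvd : ∀ ξ, a m ξ ≠ 0 → deg (ξ : G → ℂ) ∣ q := fun ξ hξ =>
    ((Nat.prime_three.coprime_iff_not_dvd.2 (D.not_three_dvd hξ)).symm).dvd_of_dvd_mul_left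
      (hq ▸ IsIrrCharacter.deg_dvd ξ.2)
  have e1 : (q : ℂ) * ∑ ξ : Cfsg.IrrCharacter G,
      U l (ξ : G → ℂ) * U l (ξ : G → ℂ) * conj (T x m (ξ : G → ℂ)) / (ξ : G → ℂ) 1 =
      3 * ((∑ u : V, ∑ w : V, ∑ w' : V, s l u * s l w * s m w' * k u w w' : ℤ) : ℂ) := by
    push_cast
    simp only [← hs, Finset.mul_sum]
    calc _ = ∑ ξ : Cfsg.IrrCharacter G, ∑ u : V, ∑ w : V, ∑ w' : V, sg l u * sg l w * sg m w' *
          ((q : ℂ) * ((ξ : G → ℂ) (u : G) * (ξ : G → ℂ) (w : G) *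
            conj ((ξ : G → ℂ) (x * (w' : G))) / (ξ : G → ℂ) 1)) := by
          refine Finset.sum_congr rfl fun ξ _ => ?_
          simp only [U, T, map_sum, map_mul, sg_conj D.hyp, Finset.sum_mul, Finset.mul_sum,
            Finset.sum_div]
          rw [Finset.sum_comm]
          refine Finset.sum_congr rfl fun u _ => ?_
          rw [Finset.sum_comm]
          refine Finset.sum_congr rfl fun w _ => ?_
          refine Finset.sum_congr rfl fun w' _ => ?_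
          ring
      _ = _ := by
          rw [Finset.sum_comm]
          refine Finset.sum_congr rfl fun u _ => ?_
          rw [Finset.sum_comm]
          refine Finset.sum_congr rfl fun w _ => ?_
          rw [Finset.sum_comm]
          refine Finset.sum_congr rfl fun w' _ => ?_
          rw [← Finset.mul_sum, ← Finset.mul_sum, hk]
          ring
  have e2 : (Nat.card V : ℤ) ^ 3 * ∑ ξ, M l ξ ^ 2 * a m ξ * r ξ =
      3 * ∑ u : V, ∑ w : V, ∑ w' : V, s l u * s l w * s m w' * k u w w' := by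
    apply Int.cast_injective (α := ℂ)
    rw [Int.cast_mul 3, Int.cast_ofNat, ← e1]
    push_cast
    simp only [Finset.mul_sum, D.hT, D.hU, map_mul, Complex.conj_natCast, map_intCast,
      irr_apply_one_eq_deg]
    refine Finset.sum_congr rfl fun ξ _ => ?_
    by_cases h0 : a m ξ = 0
    · simp [h0]
    · have hc : (deg (ξ : G → ℂ) : ℂ) * ((r ξ : ℤ) : ℂ) = q := by
        simp only [hr, if_neg h0, Int.cast_natCast]
        exact_mod_cast Nat.mul_div_cancel' (hdvd ξ h0)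
      have hd : (deg (ξ : G → ℂ) : ℂ) ≠ 0 := Nat.cast_ne_zero.2 (deg_irr_pos ξ).ne'
      rw [← hc]
      field_simp
  have e3 := congrArg (fun z : ℤ => (z : ZMod 3)) e2
  push_cast at e3
  rw [show (3 : ZMod 3) = 0 from rfl, zero_mul] at e3
  have e4 := (mul_eq_zero.1 e3).resolve_left (pow_ne_zero 3 (v_mod_three D.hyp))
  have hq0 : (q : ZMod 3) ≠ 0 := fun h => hq3 ((CharP.cast_eq_zero_iff (ZMod 3) 3 _).1 h)
  apply mul_left_cancel₀ hq0
  rw [mul_zero, Finset.mul_sum, ← e4]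
  refine Finset.sum_congr rfl fun ξ _ => ?_
  by_cases h0 : a m ξ = 0
  · simp [h0]
  · have hd0 : (deg (ξ : G → ℂ) : ZMod 3) ≠ 0 := fun h =>
      D.not_three_dvd h0 ((CharP.cast_eq_zero_iff (ZMod 3) 3 _).1 h)
    have hsq : ∀ z : ZMod 3, z ≠ 0 → z * z = 1 := by decide
    have hc : (deg (ξ : G → ℂ) : ZMod 3) * ((r ξ : ℤ) : ZMod 3) = q := by
      simp only [hr, if_neg h0, Int.cast_natCast]
      rw [← Nat.cast_mul, Nat.mul_div_cancel' (hdvd ξ h0)]
    rw [D.congr, ← hc]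
    linear_combination ((a l ξ : ZMod 3) ^ 2 * (a m ξ : ZMod 3) * ((r ξ : ℤ) : ZMod 3)) * hsq _ hd0

theorem overlap_false : ∀ p1 ∈ ([1, -1] : List ℤ), ∀ p2 ∈ ([1, -1] : List ℤ), ∀ p3 ∈ ([1, -1] : List ℤ),
    ∀ m1 ∈ ([0, 1, -1] : List ℤ), ∀ m2 ∈ ([0, 1, -1] : List ℤ), ∀ m3 ∈ ([0, 1, -1] : List ℤ),
    ∀ d1 ∈ ([1, 2] : List (ZMod 3)), ∀ d2 ∈ ([1, 2] : List (ZMod 3)), ∀ d3 ∈ ([1, 2] : List (ZMod 3)),
    p1 * m1 + p2 * m2 + p3 * m3 = 0 →
    (p1 : ZMod 3) ^ 2 * m1 * d1 + (p2 : ZMod 3) ^ 2 * m2 * d2 + (p3 : ZMod 3) ^ 2 * m3 * d3 = 0 →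
    (m1 : ZMod 3) ^ 2 * p1 * d1 + (m2 : ZMod 3) ^ 2 * p2 * d2 + (m3 : ZMod 3) ^ 2 * p3 * d3 = 0 →
    m1 = 0 ∧ m2 = 0 ∧ m3 = 0 := by
  decide +kernel

theorem Table.disjoint [Fintype G] (D : Table x V a M) {l m : V →* ℂˣ} (hlm : l ≠ m)
    {ξ : Cfsg.IrrCharacter G} (hξ : a l ξ ≠ 0) : a m ξ = 0 := by
  obtain ⟨p, q, r, h1, h2, h3, hp, hq, hr, hz⟩ := D.exists_three l
  have o := D.orth l m
  rw [if_neg hlm, sum_of_three h1 h2 h3 _ (fun i a b c => by rw [hz i a b c, zero_mul])] at o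
  have x1 := D.mixed l m
  rw [sum_of_three h1 h2 h3 _ (fun i a b c => by rw [hz i a b c]; simp)] at x1
  have x2 := D.mixed m l
  rw [sum_of_three h1 h2 h3 _ (fun i a b c => by rw [hz i a b c]; simp)] at x2
  have mem2 : ∀ η, a l η ≠ 0 → a l η ∈ ([1, -1] : List ℤ) := fun η h => by
    rcases D.cases l η with e | e | e
    · exact absurd e h
    all_goals simp [e]
  have mem3 : ∀ η, a m η ∈ ([0, 1, -1] : List ℤ) := fun η => by
    rcases D.cases m η with e | e | e <;> simp [e]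
  have memd : ∀ η, a l η ≠ 0 → (deg (η : G → ℂ) : ZMod 3) ∈ ([1, 2] : List (ZMod 3)) := fun η h => by
    have hd0 : (deg (η : G → ℂ) : ZMod 3) ≠ 0 := fun e =>
      D.not_three_dvd h ((CharP.cast_eq_zero_iff (ZMod 3) 3 _).1 e)
    have : ∀ z : ZMod 3, z ≠ 0 → z ∈ ([1, 2] : List (ZMod 3)) := by decide
    exact this _ hd0
  obtain ⟨z1, z2, z3⟩ := overlap_false _ (mem2 p hp) _ (mem2 q hq) _ (mem2 r hr) _ (mem3 p) _ (mem3 q) _
    (mem3 r) _ (memd p hp) _ (memd q hq) _ (memd r hr) o x1 x2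
  by_cases e1 : ξ = p
  · rw [e1]; exact z1
  by_cases e2 : ξ = q
  · rw [e2]; exact z2
  by_cases e3 : ξ = r
  · rw [e3]; exact z3
  exact absurd (hz ξ e1 e2 e3) hξ

variable [Fintype (V →* ℂˣ)]

theorem Table.apply_x (D : Table x V a M) (ξ : Cfsg.IrrCharacter G) :
    (ξ : G → ℂ) x = ((∑ l, a l ξ : ℤ) : ℂ) := by
  apply mul_left_cancel₀ (cast_v_ne (V := V))
  push_cast
  rw [Finset.mul_sum, ← Finset.sum_congr rfl fun l _ => D.hT l ξ]
  simp only [T]
  rw [Finset.sum_comm]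
  simp only [← Finset.sum_mul, sum_lin D.hyp, ite_mul, zero_mul, Finset.sum_ite_eq',
    Finset.mem_univ, if_true, Subgroup.coe_one, mul_one]

theorem Table.sum_M (D : Table x V a M) (ξ : Cfsg.IrrCharacter G) :
    ∑ l, M l ξ = (deg (ξ : G → ℂ) : ℤ) := by
  apply Int.cast_injective (α := ℂ)
  push_cast
  rw [← irr_apply_one_eq_deg]
  apply mul_left_cancel₀ (cast_v_ne (V := V))
  rw [Finset.mul_sum, ← Finset.sum_congr rfl fun l _ => D.hU l ξ]
  simp only [U]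
  rw [Finset.sum_comm]
  simp only [← Finset.sum_mul, sum_lin D.hyp, ite_mul, zero_mul, Finset.sum_ite_eq',
    Finset.mem_univ, if_true, Subgroup.coe_one]

theorem Table.deg_congr [Fintype G] (D : Table x V a M) {l : V →* ℂˣ} {ξ : Cfsg.IrrCharacter G}
    (h : a l ξ ≠ 0) : (3 : ℤ) ∣ (deg (ξ : G → ℂ) : ℤ) - a l ξ := by
  apply (ZMod.intCast_zmod_eq_zero_iff_dvd _ 3).1
  rw [← D.sum_M]
  push_cast
  rw [Finset.sum_congr rfl fun k _ => D.congr k ξ, Finset.sum_eq_single l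
    (fun k _ hk => by rw [D.disjoint hk.symm h, Int.cast_zero]) (by simp), sub_self]

theorem Table.apply_x_cube [Fintype G] (D : Table x V a M) (ξ : Cfsg.IrrCharacter G) :
    (∑ l, a l ξ) ^ 3 = ∑ l, a l ξ := by
  by_cases h : ∃ l, a l ξ ≠ 0
  · obtain ⟨l, hl⟩ := h
    rw [Finset.sum_eq_single l (fun k _ hk => D.disjoint hk.symm hl) (by simp)]
    rcases D.cases l ξ with e | e | e <;> simp [e]
  · push Not at h
    simp [h]

end Cfsg.Lib.ThreeFour.CharTh
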