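import Mathlib
import Cfsg.Agent.ThreeFour.Chars.Table

/-!
# The principal family with its signs and the count of pairs of involutions
-/

set_option autoImplicit false

namespace Cfsg.Lib.ThreeFour.CharTh

open Subgroup Cfsg.Lib.Chars
open scoped _root_.Classical

universe u

variable {G : Type u} [Group G] [Finite G] {x : G} {V : Subgroup G} [Fintype V]

/-- The family with the signs `1, 1, -1`. -/
theorem exists_signed [Fintype G] (S : Setting x V) {a M : (V →* ℂˣ) → Cfsg.IrrCharacter G → ℤ}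
    (D : Table x V a M) :
    ∃ χ ψ, Fam x V χ ψ (1 : ℤ) (-1) ∧ deg (χ : G → ℂ) % 3 = 1 ∧
      deg (ψ : G → ℂ) = deg (χ : G → ℂ) + 1 := by
  letI := @Fintype.ofFinite _ (finite_lin S.hyp)
  obtain ⟨χ, ψ, e, e', hF⟩ := exists_fam S
  have norm : ∀ χ ψ e', Fam x V χ ψ (1 : ℤ) e' →
      deg (χ : G → ℂ) % 3 = 1 ∧ e' = -1 ∧ deg (ψ : G → ℂ) = deg (χ : G → ℂ) + 1 := by
    intro χ ψ e' hF
    have h1 : a 1 χ = 1 := by
      have h := hF.val₁
      rw [D.hT] at h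
      exact_mod_cast mul_left_cancel₀ cast_v_ne h
    obtain ⟨k, hk⟩ := D.deg_congr (l := 1) (ξ := χ) (by rw [h1]; decide)
    rw [h1] at hk
    have hr := hF.rel_one S.hyp
    have hB := deg_irr_pos ψ
    rcases Int.mul_eq_one_iff_eq_one_or_neg_one.1 hF.sq₂ with ⟨rfl, -⟩ | ⟨rfl, -⟩
    · omega
    · exact ⟨by omega, rfl, by omega⟩
  rcases Int.mul_eq_one_iff_eq_one_or_neg_one.1 hF.sq₁ with ⟨rfl, -⟩ | ⟨rfl, -⟩
  · obtain ⟨h1, rfl, h2⟩ := norm _ _ _ hF
    exact ⟨χ, ψ, hF, h1, h2⟩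
  · rcases Int.mul_eq_one_iff_eq_one_or_neg_one.1 hF.sq₂ with ⟨rfl, -⟩ | ⟨rfl, -⟩
    · obtain ⟨h1, -, h2⟩ := norm _ _ _ hF.symm
      exact ⟨ψ, χ, hF.symm, h1, h2⟩
    · have := hF.rel_one S.hyp
      have := deg_irr_pos χ
      have := deg_irr_pos ψ
      omega

omit [Fintype V] in
theorem sq_of_conj {t z : G} (ht : orderOf t = 2) (hz : IsConj t z) : z * z = 1 := by
  obtain ⟨c, rfl⟩ := isConj_iff.1 hz
  rw [show c * t * c⁻¹ * (c * t * c⁻¹) = c * (t * t) * c⁻¹ by group, orderOf_two_sq ht, mul_one,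
    mul_inv_cancel]

omit [Finite G] [Fintype V] in
theorem inverts_of_pair (H : Hyp x V) {y y' w : G} (hw : w ∈ V) (hy : y * y = 1) (hy' : y' * y' = 1)
    (he : y * y' = x * w) : y * x * y⁻¹ = x⁻¹ := by
  have h1 : y * (x * w) * y⁻¹ = (x * w)⁻¹ := by
    rw [← he, mul_inv_rev, inv_eq_of_mul_eq_one_right hy, inv_eq_of_mul_eq_one_right hy', ← mul_assoc,
      hy, one_mul]
  have h2 := congrArg (fun t => t ^ 4) h1
  simp only [conj_pow, inv_pow, pow_four H hw] at h2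
  exact h2

/-- The pairs of involutions with product in `x V`. -/
theorem card_pairs (H : Hyp x V) {τ : G} (hτ : Tau x V τ) {s t : G} (hs : orderOf s = 2)
    (ht : orderOf t = 2) :
    ∑ w : V, Nat.card {p : G × G // IsConj s p.1 ∧ IsConj t p.2 ∧ p.1 * p.2 = x * w} =
      3 * mu V τ s * mu V τ t := by
  have hτi : τ⁻¹ = τ := inv_eq_of_mul_eq_one_right hτ.sq
  have hmul : ∀ (i j : ZMod 3) {w w' : G}, w ∈ V → w' ∈ V →
      τ * (xp x i * w) * (τ * (xp x j * w')) = xp x (-i + j) * (w * w') := by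
    intro i j w w' hw hw'
    calc τ * (xp x i * w) * (τ * (xp x j * w'))
        = (τ * xp x i * τ⁻¹) * (τ * w * τ⁻¹) * (xp x j * w') := by
          rw [hτi]; simp only [← mul_assoc]; rw [mul_assoc (τ * xp x i) τ τ, hτ.sq, mul_one]
      _ = xp x (-i + j) * (w * w') := by
          rw [inv_xp H hτ.conj, mul_inv_eq_iff_eq_mul.2 (hτ.fix w hw).eq,
            (comm_xp H hw j).mul_mul_mul_comm, ← xp_add H]
  let f : ZMod 3 × {w : V // IsConj s (τ * w)} × {w : V // IsConj t (τ * w)} →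
      Σ w : V, {p : G × G // IsConj s p.1 ∧ IsConj t p.2 ∧ p.1 * p.2 = x * w} := fun q =>
    ⟨q.2.1.1 * q.2.2.1, (τ * (xp x q.1 * (q.2.1.1 : G)), τ * (xp x (q.1 + 1) * (q.2.2.1 : G))),
      q.2.1.2.trans (isConj_shift H hτ.conj q.2.1.1.2 _), q.2.2.2.trans (isConj_shift H hτ.conj q.2.2.1.2 _),
      by rw [hmul _ _ q.2.1.1.2 q.2.2.1.2, neg_add_cancel_left, xp_one]; rfl⟩
  have hf : Function.Bijective f := by
    constructor
    · rintro ⟨i, ⟨w, hw⟩, ⟨w', hw'⟩⟩ ⟨j, ⟨z, hz⟩, ⟨z', hz'⟩⟩ h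
      have h1 := congrArg (fun q : Σ w : V, {p : G × G // _} => q.2.1) h
      simp only [f, Prod.mk.injEq, mul_right_inj] at h1
      obtain ⟨rfl, e1⟩ := decomp H w.2 z.2 h1.1
      obtain ⟨-, e2⟩ := decomp H w'.2 z'.2 h1.2
      obtain rfl := Subtype.ext e1
      obtain rfl := Subtype.ext e2
      rfl
    · rintro ⟨u, ⟨⟨y, y'⟩, hy, hy', he⟩⟩
      have hy2 := sq_of_conj hs hy
      obtain ⟨i, w, hw, hyf, -⟩ := exists_form H hτ.sq hτ.conj
        (inverts_of_pair H u.2 hy2 (sq_of_conj ht hy') he)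
      simp only at hyf he
      subst hyf
      have hy'e : y' = τ * (xp x (i + 1) * (w * u)) := by
        calc y' = (τ * (xp x i * w)) * (x * (u : G)) := by rw [← he, ← mul_assoc, hy2, one_mul]
          _ = τ * ((xp x i * w) * (xp x 1 * (u : G))) := by rw [xp_one, mul_assoc τ]
          _ = _ := by rw [(comm_xp H hw 1).mul_mul_mul_comm, ← xp_add H]
      subst hy'e
      refine ⟨⟨i, ⟨⟨w, hw⟩, hy.trans (isConj_shift H hτ.conj hw i).symm⟩,
        ⟨⟨w, hw⟩ * u, hy'.trans (isConj_shift H hτ.conj (V.mul_mem hw u.2) (i + 1)).symm⟩⟩, ?_⟩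
      have hu : (⟨w, hw⟩ : V) * (⟨w, hw⟩ * u) = u := by
        rw [← mul_assoc, show (⟨w, hw⟩ : V) * ⟨w, hw⟩ = 1 from Subtype.ext (H.sq w hw), one_mul]
      refine Sigma.subtype_ext hu ?_
      simp [f]
  have h := Nat.card_eq_of_bijective f hf
  rw [Nat.card_prod, Nat.card_prod, Nat.card_zmod, Nat.card_sigma] at h
  rw [← h, mul_assoc]
  rfl

end Cfsg.Lib.ThreeFour.CharTh
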