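import Mathlib
import Cfsg.Agent.ThreeFour.Chars.Fields

/-!
# The lower bound for the number of triangles
-/

set_option autoImplicit false

namespace Cfsg.Lib.ThreeFour.CharTh

open Subgroup Cfsg.Lib.Chars
open scoped ComplexConjugate _root_.Classical

universe u

variable {G : Type u} [Group G] [Finite G] {x : G} {V : Subgroup G}

theorem two_neg {m n : ℚ} (hm : 8 ≤ m) (hn : 8 ≤ n) : -3 / 16 ≤ -(1 / m) - 1 / n + 1 / (m + n) := by
  have key : -(1 / m) - 1 / n + 1 / (m + n) - -3 / 16 =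
      (3 * (m * n * (m + n)) - 16 * (m * m + m * n + n * n)) / (16 * (m * n * (m + n))) := by
    field_simp
    ring
  have h : 0 ≤ (3 * (m * n * (m + n)) - 16 * (m * m + m * n + n * n)) / (16 * (m * n * (m + n))) := by
    apply div_nonneg
    · nlinarith [mul_nonneg (mul_nonneg (sub_nonneg.2 hm) (by linarith : (0 : ℚ) ≤ n)) (by linarith : (0 : ℚ) ≤ n),
        mul_nonneg (mul_nonneg (sub_nonneg.2 hn) (by linarith : (0 : ℚ) ≤ m)) (by linarith : (0 : ℚ) ≤ m),
        mul_self_nonneg (m - n)]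
    · positivity
  linarith [key ▸ h]

/-- The inverse degrees of a signed triple. -/
theorem inv_triple {p q r : ℤ} (hp : p % 3 = 1) (hq : q % 3 = 1) (hr : r % 3 = 1) (hsum : p + q + r = 0)
    (p2 : p ≠ -2) (q2 : q ≠ -2) (r2 : r ≠ -2) (p5 : p ≠ -5) (q5 : q ≠ -5) (r5 : r ≠ -5) :
    (-3 : ℚ) / 16 ≤ 1 / (p : ℚ) + 1 / q + 1 / r := by
  have one : ∀ {a b c : ℤ}, a % 3 = 1 → b % 3 = 1 → c % 3 = 1 → a + b + c = 0 → a ≠ -2 → a ≠ -5 →
      b ≠ -2 → b ≠ -5 → a < 0 → b < 0 → (-3 : ℚ) / 16 ≤ 1 / (a : ℚ) + 1 / b + 1 / c := by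
    intro a b c ha hb hc hs a2 a5 b2 b5 ha0 hb0
    have h1 : (8 : ℚ) ≤ -(a : ℚ) := by exact_mod_cast (show (8 : ℤ) ≤ -a by omega)
    have h2 : (8 : ℚ) ≤ -(b : ℚ) := by exact_mod_cast (show (8 : ℤ) ≤ -b by omega)
    have h3 : (c : ℚ) = -(a : ℚ) + -(b : ℚ) := by exact_mod_cast (show c = -a + -b by omega)
    have := two_neg h1 h2
    rw [h3]
    simpa [div_neg] using this
  have two : ∀ {a b c : ℤ}, 0 < a → 0 < b → a + b + c = 0 →
      (-3 : ℚ) / 16 ≤ 1 / (a : ℚ) + 1 / b + 1 / c := by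
    intro a b c ha hb hs
    have h1 : (0 : ℚ) < a := by exact_mod_cast ha
    have h2 : (0 : ℚ) < b := by exact_mod_cast hb
    have h3 : (c : ℚ) = -((a : ℚ) + b) := by exact_mod_cast (show c = -(a + b) by omega)
    rw [h3, div_neg]
    have h4 : 1 / ((a : ℚ) + b) ≤ 1 / (a : ℚ) := one_div_le_one_div_of_le h1 (by linarith)
    have h5 : 0 < 1 / (b : ℚ) := by positivity
    linarith
  rcases lt_or_gt_of_ne (show p ≠ 0 by omega) with a | a <;>
    rcases lt_or_gt_of_ne (show q ≠ 0 by omega) with b | b <;>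
    rcases lt_or_gt_of_ne (show r ≠ 0 by omega) with c | c
  · omega
  · exact one hp hq hr hsum p2 p5 q2 q5 a b
  · have := one hp hr hq (by omega) p2 p5 r2 r5 a c; linarith
  · have := two b c (show q + r + p = 0 by omega); linarith
  · have := one hq hr hp (by omega) q2 q5 r2 r5 b c; linarith
  · have := two a c (show p + r + q = 0 by omega); linarith
  · exact two a b hsum
  · omega

theorem mem_zpowers_of_commute (H : Hyp x V) {b c : G} (hb : orderOf b = 3) (hc : c ^ 3 = 1)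
    (hbc : Commute b c) : c ∈ zpowers b := by
  have key : ∀ g : G, ∀ y : G, g * y * g⁻¹ = b → (∀ z, Commute z y → z ^ 3 = 1 → z ∈ zpowers y) →
      c ∈ zpowers b := by
    intro g y hg hy
    have h1 : Commute (g⁻¹ * c * g) y := by
      have : Commute (g⁻¹ * c * g⁻¹⁻¹) (g⁻¹ * b * g⁻¹⁻¹) := (Commute.conj_iff g⁻¹).2 hbc.symm
      rwa [inv_inv, show g⁻¹ * b * g = y by rw [← hg]; group] at this
    have h2 := hy _ h1 (by
      rw [show g⁻¹ * c * g = g⁻¹ * c * g⁻¹⁻¹ by rw [inv_inv], conj_pow, hc]; group)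
    obtain ⟨k, hk⟩ := mem_zpowers_iff.1 h2
    refine mem_zpowers_iff.2 ⟨k, ?_⟩
    rw [← hg, conj_zpow, hk]; group
  rcases conj_of_order_three H hb with h | h <;> obtain ⟨g, hg⟩ := isConj_iff.1 h
  · exact key g x hg fun z hz hz3 => mem_of_three_power H hz (k := 1) (by simpa using hz3)
  · refine key g x⁻¹ hg fun z hz hz3 => ?_
    rw [zpowers_inv]
    exact mem_of_three_power H (inv_inv x ▸ hz.inv_right) (k := 1) (by simpa using hz3)

theorem mem_triangle (H : Hyp x V) {y y' : G} (hy : orderOf y = 3) (hy' : orderOf y' = 3)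
    (he : y * y' = x) : x * y ∈ triangle x := by
  set a := x * y with ha
  have hy3 : y ^ 3 = 1 := hy ▸ pow_orderOf_eq_one y
  have hy3' : y' ^ 3 = 1 := hy' ▸ pow_orderOf_eq_one y'
  have hx3 : x * x * x = 1 := by rw [← pow_three H, pow_succ, pow_two]
  have hxi : x⁻¹ = x * x := inv_eq_of_mul_eq_one_right (by rw [← mul_assoc, hx3])
  have ey : y = x⁻¹ * a := by rw [ha, inv_mul_cancel_left]
  have ey' : y' = (x * a)⁻¹ := by
    rw [ha, mul_inv_rev, mul_inv_rev, mul_assoc, show x⁻¹ * x⁻¹ = x by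
      rw [← mul_inv_rev]; exact inv_eq_of_mul_eq_one_right hx3]
    exact eq_inv_mul_of_mul_eq he
  set b := x * a * x⁻¹ with hb
  set c := x⁻¹ * a * x with hc
  have hxg : ∀ g, x * (x * (x * g)) = g := fun g => by
    rw [← mul_assoc x x, ← mul_assoc (x * x) x, hx3, one_mul]
  have h1 : b * c * a = 1 := by
    have h : (x * a) ^ 3 = 1 := by rw [ey', inv_pow, inv_eq_one] at hy3'; exact hy3'
    rw [← h, hb, hc, hxi]
    simp only [pow_succ, pow_zero, one_mul, mul_assoc, hxg]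
  have h2 : c * b * a = 1 := by
    have h : (x⁻¹ * a) ^ 3 = 1 := ey ▸ hy3
    rw [← h, hb, hc, hxi]
    simp only [pow_succ, pow_zero, one_mul, mul_assoc, hxg]
  have hcomm : Commute b c := mul_right_cancel (h1.trans h2.symm)
  have habc : a * b * c = 1 := by
    have h3 : a = (b * c)⁻¹ := eq_inv_of_mul_eq_one_right h1
    rw [h3]; group
  have hab : Commute a b := by
    have h3 : Commute (x * b * x⁻¹) (x * c * x⁻¹) := (Commute.conj_iff x).2 hcomm
    rw [show x * b * x⁻¹ = c by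
      rw [hb, hc, hxi]
      simp only [mul_assoc]
      congr 1; congr 1; congr 1
      rw [← mul_assoc x x x, hx3, mul_one],
      show x * c * x⁻¹ = a by rw [hc]; group] at h3
    -- now transport once more
    have h4 : Commute (x * c * x⁻¹) (x * a * x⁻¹) := (Commute.conj_iff x).2 h3
    rwa [show x * c * x⁻¹ = a by rw [hc]; group, ← hb] at h4
  refine ⟨fun h3 => ?_, hab, habc⟩
  set k := orderOf a / 3
  have hak : orderOf (a ^ k) = 3 := by
    rw [orderOf_pow]
    obtain ⟨m, hm⟩ := h3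
    have hm0 : 0 < m := Nat.pos_of_ne_zero fun e => by rw [e, mul_zero] at hm; exact (orderOf_pos a).ne' hm
    have hk : k = m := by rw [show k = orderOf a / 3 from rfl, hm, Nat.mul_div_cancel_left m (by norm_num)]
    rw [hk, hm, Nat.gcd_mul_left_left, Nat.mul_div_cancel _ hm0]
  have hbk : x * a ^ k * x⁻¹ = b ^ k := by rw [hb, conj_pow]
  have h4 : b ^ k ∈ zpowers (a ^ k) :=
    mem_zpowers_of_commute H hak (by rw [← hbk, conj_pow, ← hak, pow_orderOf_eq_one]; group)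
      (hab.pow_pow k k)
  have hxa : Commute x (a ^ k) := by
    rw [← hbk] at h4
    obtain ⟨z, hz⟩ := mem_zpowers_iff.1 h4
    have hz' : (a ^ k) ^ (z % 3) = x * a ^ k * x⁻¹ := by
      have := zpow_mod_orderOf (a ^ k) z
      rw [hak] at this
      rw [← hz]
      exact_mod_cast this
    rcases (show z % 3 = 0 ∨ z % 3 = 1 ∨ z % 3 = 2 by omega) with e | e | e
    · rw [e, zpow_zero] at hz'
      have := conj_eq_one_iff.1 hz'.symm
      rw [this, orderOf_one] at hak
      omega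
    · rw [e, zpow_one] at hz'
      exact (mul_inv_eq_iff_eq_mul.1 hz'.symm)
    · exfalso
      have h5 : x * a ^ k * x⁻¹ = (a ^ k)⁻¹ := by
        rw [← hz', e]
        refine eq_inv_of_mul_eq_one_left ?_
        rw [zpow_two, ← pow_two, ← pow_succ]
        have h3' := pow_orderOf_eq_one (a ^ k)
        rw [hak] at h3'
        exact h3'
      have h6 : x * (x * (x * a ^ k * x⁻¹) * x⁻¹) * x⁻¹ = (a ^ k)⁻¹ := by
        rw [h5, show x * (a ^ k)⁻¹ * x⁻¹ = (x * a ^ k * x⁻¹)⁻¹ by group, h5, inv_inv, h5]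
      rw [show x * (x * (x * a ^ k * x⁻¹) * x⁻¹) * x⁻¹ = (x * x * x) * a ^ k * (x * x * x)⁻¹ by group,
        hx3] at h6
      simp only [one_mul, inv_one, mul_one] at h6
      have h7 : (a ^ k) * (a ^ k) = 1 := mul_eq_one_iff_eq_inv.2 h6
      have h8 := orderOf_dvd_of_pow_eq_one ((pow_two _).trans h7)
      rw [hak] at h8
      omega
  have hk1 : a ^ k ∈ zpowers x := mem_of_three_power H hxa.symm (k := 1) (by
    rw [pow_one, ← hak]; exact pow_orderOf_eq_one _)
  have hxpow : x ∈ zpowers (a ^ k) :=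
    mem_zpowers_of_commute H hak (pow_three H) hxa.symm
  have hax : Commute a x := by
    obtain ⟨z, hz⟩ := mem_zpowers_iff.1 hxpow
    rw [← hz]
    exact ((Commute.refl a).pow_right k).zpow_right z
  obtain ⟨i, w, hw, hi⟩ := exists_xp H hax
  have hba : b = a := by rw [hb, ← hax.eq, mul_inv_cancel_right]
  have hca : c = a := by rw [hc, mul_assoc, hax.eq, inv_mul_cancel_left]
  rw [hba, hca] at habc
  have ha3 : a ^ 3 = 1 := by rw [pow_succ, pow_two]; exact habc
  have hmem := mem_of_three_power H hax (k := 1) (by simpa using ha3)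
  obtain ⟨j, hj⟩ := (mem_zpowers_iff_xp H).1 hmem
  have h5 : ∀ i : ZMod 3, i = 0 ∨ i = 1 ∨ i = -1 := by decide
  rcases h5 j with e | e | e
  · rw [e, xp_zero] at hj
    rw [← hj, orderOf_one] at h3
    omega
  · rw [e, xp_one] at hj
    rw [ey, ← hj, inv_mul_cancel, orderOf_one] at hy
    omega
  · rw [e, xp_neg H, xp_one] at hj
    rw [ey', ← hj, mul_inv_cancel, inv_one, orderOf_one] at hy'
    omega

theorem card_pairs_le (H : Hyp x V) :
    Nat.card {p : G × G // IsConj x p.1 ∧ IsConj x p.2 ∧ p.1 * p.2 = x} ≤ (triangle x).ncard := by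
  have hord : ∀ g, IsConj x g → orderOf g = 3 := fun g hg => by
    obtain ⟨c, rfl⟩ := isConj_iff.1 hg
    rw [show c * x * c⁻¹ = (MulAut.conj c) x from rfl, MulEquiv.orderOf_eq, H.ord]
  rw [← Nat.card_coe_set_eq]
  refine Nat.card_le_card_of_injective
    (fun p => ⟨x * p.1.1, mem_triangle H (hord _ p.2.1) (hord _ p.2.2.1) p.2.2.2⟩) fun p q h => ?_
  have h1 : p.1.1 = q.1.1 := mul_left_cancel (congrArg Subtype.val h)
  refine Subtype.ext (Prod.ext h1 (mul_left_cancel (a := p.1.1) ?_))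
  rw [p.2.2.2, h1, q.2.2.2]

variable [Fintype V] {χ ψ : Cfsg.IrrCharacter G}
  {a M : (V →* ℂˣ) → Cfsg.IrrCharacter G → ℤ}

theorem triangle_ge [Fintype G] (S : Setting x V) (D : Table x V a M)
    (hF : Fam x V χ ψ (1 : ℤ) (-1)) (hψ : deg (ψ : G → ℂ) = deg (χ : G → ℂ) + 1) :
    (if Nat.card V = 2 then 13 else 7) * Nat.card G ≤
      16 * 9 * Nat.card V ^ 2 * (triangle x).ncard := by
  have H := S.hyp
  haveI := S.simple
  letI := @Fintype.ofFinite _ (finite_lin H)
  set n := Nat.card {p : G × G // IsConj x p.1 ∧ IsConj x p.2 ∧ p.1 * p.2 = x}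
  set φ : (V →* ℂˣ) → ℚ := fun l =>
    ∑ ξ : Cfsg.IrrCharacter G, (a l ξ : ℚ) / (deg (ξ : G → ℂ) : ℚ) with hφ
  have hn : (n : ℚ) * (9 * (Nat.card V : ℚ) ^ 2) = (Nat.card G : ℚ) * ∑ l, φ l := by
    apply Rat.cast_injective (α := ℂ)
    simp only [hφ, Finset.mul_sum]
    push_cast
    have hK : (Nat.card {g : G // IsConj x g} : ℂ) * (3 * Nat.card V) = Nat.card G := by
      have h := card_cent H (w := (1 : G)) V.one_mem
      rw [mul_one] at h
      exact_mod_cast (h ▸ card_isConj_mul x :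
        Nat.card {g : G // IsConj x g} * (3 * Nat.card V) = Nat.card G)
    rw [class_mult_formula x x x, Finset.mul_sum, Finset.sum_mul, Finset.sum_comm]
    refine Finset.sum_congr rfl fun ξ _ => ?_
    rw [← Finset.mul_sum, ← Finset.sum_div, D.apply_x, map_intCast, irr_apply_one_eq_deg]
    have h3 : ((∑ l, a l ξ : ℤ) : ℂ) * ((∑ l, a l ξ : ℤ) : ℂ) * ((∑ l, a l ξ : ℤ) : ℂ) =
        ∑ l, (a l ξ : ℂ) := by
      rw [← Int.cast_mul, ← Int.cast_mul, ← pow_two, ← pow_succ, D.apply_x_cube, Int.cast_sum]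
    rw [h3]
    have hG : (Nat.card G : ℂ) ≠ 0 := Nat.cast_ne_zero.2 Nat.card_pos.ne'
    calc _ = ((Nat.card {g : G // IsConj x g} : ℂ) * (3 * Nat.card V)) *
          ((Nat.card {g : G // IsConj x g} : ℂ) * (3 * Nat.card V)) / Nat.card G *
          ((∑ l, (a l ξ : ℂ)) / (deg (ξ : G → ℂ) : ℂ)) := by ring
      _ = _ := by rw [hK, mul_div_assoc (Nat.card G : ℂ), div_self hG, mul_one]
  have h1val : a 1 (principal G) = 1 ∧ a 1 χ = 1 ∧ a 1 ψ = -1 := by
    have e0 := D.hT 1 (principal G)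
    rw [T_one_principal] at e0
    have e1 := hF.val₁
    have e2 := hF.val₂
    rw [D.hT] at e1 e2
    refine ⟨?_, ?_, ?_⟩
    · exact_mod_cast (mul_right_eq_self₀.1 e0.symm).resolve_right cast_v_ne
    · exact_mod_cast mul_left_cancel₀ cast_v_ne e1
    · exact_mod_cast mul_left_cancel₀ cast_v_ne e2
  have hφ1 : 1 ≤ φ 1 := by
    simp only [hφ]
    rw [sum_of_three hF.ne₁.symm hF.ne₂.symm hF.ne _ (fun i e1 e2 e3 => ?_), h1val.1, h1val.2.1,
      h1val.2.2, hψ, show deg (principal G : G → ℂ) = 1 from by simp [deg, principal]]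
    · push_cast
      have hd : (0 : ℚ) < (deg (χ : G → ℂ) : ℚ) := by exact_mod_cast deg_irr_pos χ
      have : 1 / ((deg (χ : G → ℂ) : ℚ) + 1) ≤ 1 / (deg (χ : G → ℂ) : ℚ) :=
        one_div_le_one_div_of_le hd (by linarith)
      rw [neg_div, div_one]
      linarith
    · have h := hF.other i e1 e2 e3
      rw [D.hT] at h
      rw [Int.cast_eq_zero.1 ((mul_eq_zero.1 h).resolve_left cast_v_ne), Int.cast_zero, zero_div]
  have hφl : ∀ l : V →* ℂˣ, l ≠ 1 → (-3 : ℚ) / 16 ≤ φ l := by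
    intro l hl
    obtain ⟨p, q, r, h1, h2, h3, hp, hq, hr, hz⟩ := D.exists_three l
    simp only [hφ]
    rw [sum_of_three h1 h2 h3 _ (fun i e1 e2 e3 => by rw [hz i e1 e2 e3]; simp)]
    have hsum : ∑ ξ : Cfsg.IrrCharacter G, a l ξ * (deg (ξ : G → ℂ) : ℤ) = 0 := by
      have h := sum_mul_conj_T H l (not_conj_of_order H (g := (1 : G))
        (Or.inl (by rw [orderOf_one]; norm_num)))
      simp only [D.hT, map_mul, Complex.conj_natCast, map_intCast, irr_apply_one_eq_deg] at h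
      rw [Finset.sum_congr rfl (g := fun ξ : Cfsg.IrrCharacter G =>
        (Nat.card V : ℂ) * ((a l ξ : ℂ) * (deg (ξ : G → ℂ) : ℂ))) fun ξ _ => by ring,
        ← Finset.mul_sum] at h
      exact_mod_cast (mul_eq_zero.1 h).resolve_left cast_v_ne
    rw [sum_of_three h1 h2 h3 _ (fun i e1 e2 e3 => by rw [hz i e1 e2 e3]; simp)] at hsum
    have info : ∀ ξ, a l ξ ≠ 0 → (a l ξ : ℤ) * (deg (ξ : G → ℂ) : ℤ) % 3 = 1 ∧
        (a l ξ : ℤ) * (deg (ξ : G → ℂ) : ℤ) ≠ -2 ∧ (a l ξ : ℤ) * (deg (ξ : G → ℂ) : ℤ) ≠ -5 ∧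
        (a l ξ : ℚ) / (deg (ξ : G → ℂ) : ℚ) = 1 / (((a l ξ * (deg (ξ : G → ℂ) : ℤ)) : ℤ) : ℚ) := by
      intro ξ hξ
      have hne : ξ ≠ principal G := fun e => by
        have := D.disjoint (Ne.symm hl) (ξ := ξ) (by rw [e, h1val.1]; decide)
        exact hξ this
      have h3 := Cfsg.Lib.GWD.three_le_deg (fun hc => not_comm S hc.is_comm.comm) ξ hne
      have h5 : deg (ξ : G → ℂ) ≠ 5 := fun e => S.five (e ▸ IsIrrCharacter.deg_dvd ξ.2)
      obtain ⟨k, hk⟩ := D.deg_congr hξ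
      rcases (D.cases l ξ).resolve_left hξ with e | e <;> rw [e] at hk ⊢
      · refine ⟨by omega, by omega, by omega, by simp⟩
      · refine ⟨by omega, by omega, by omega, ?_⟩
        push_cast
        rw [neg_one_mul, div_neg, neg_div]
    obtain ⟨i1, i2, i3, i4⟩ := info p hp
    obtain ⟨j1, j2, j3, j4⟩ := info q hq
    obtain ⟨k1, k2, k3, k4⟩ := info r hr
    rw [i4, j4, k4]
    exact inv_triple i1 j1 k1 hsum i2 j2 k2 i3 j3 k3
  have hcardL : Fintype.card (V →* ℂˣ) = Nat.card V := by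
    have h := sum_lin H (1 : V)
    simp only [sg, map_one, Units.val_one, if_true, Finset.sum_const, Finset.card_univ,
      nsmul_eq_mul, mul_one] at h
    exact_mod_cast h
  have hΦ : 1 - 3 / 16 * ((Nat.card V : ℚ) - 1) ≤ ∑ l, φ l := by
    rw [← Finset.add_sum_erase _ _ (Finset.mem_univ (1 : V →* ℂˣ))]
    have h := Finset.card_nsmul_le_sum (Finset.univ.erase (1 : V →* ℂˣ)) φ (-3 / 16)
      fun l hl => hφl l (Finset.ne_of_mem_erase hl)
    rw [Finset.card_erase_of_mem (Finset.mem_univ _), Finset.card_univ, hcardL, nsmul_eq_mul] at h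
    rcases H.card with e | e <;> rw [e] at h ⊢ <;> norm_num at h ⊢ <;> linarith
  have hle := card_pairs_le H
  have hG : (0 : ℚ) ≤ Nat.card G := Nat.cast_nonneg _
  have h16 := mul_le_mul_of_nonneg_left hΦ hG
  rw [← hn] at h16
  have hleQ : (n : ℚ) ≤ ((triangle x).ncard : ℚ) := by exact_mod_cast hle
  suffices h : ((if Nat.card V = 2 then 13 else 7 : ℕ) : ℚ) * Nat.card G ≤
      16 * 9 * (Nat.card V : ℚ) ^ 2 * ((triangle x).ncard : ℚ) by exact_mod_cast h
  rcases H.card with e | e <;> rw [e] at h16 ⊢ <;> norm_num at h16 ⊢ <;> linarith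

end Cfsg.Lib.ThreeFour.CharTh
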