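import Mathlib
import Cfsg.Agent.ThreeFour.Chars.Triangle

/-!
# The character theory of the principal family for the prime three
-/

set_option autoImplicit false

namespace Cfsg.Lib.ThreeFour

open Subgroup Cfsg.Lib.Chars CharTh
open scoped ComplexConjugate _root_.Classical

universe u

namespace CharTh

variable {G : Type u} [Group G] [Finite G]

theorem centre_dvd (χ : Cfsg.IrrCharacter G) (t : G) {h : ℤ} (ht : (χ : G → ℂ) t = (h : ℂ)) :
    ((deg (χ : G → ℂ) : ℤ)) * (cen t : ℤ) ∣ h * (Nat.card G : ℤ) := by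
  have hi := isIntegral_centralChar_irr χ.2 t
  rw [irr_apply_one_eq_deg, ht] at hi
  have hd : (deg (χ : G → ℂ) : ℚ) ≠ 0 := Nat.cast_ne_zero.2 (deg_irr_pos χ).ne'
  obtain ⟨z, hz⟩ := int_of_isIntegral_rat
    (q := (Nat.card {g : G // IsConj t g} : ℚ) * h / (deg (χ : G → ℂ) : ℚ)) (by push_cast; exact hi)
  rw [div_eq_iff hd] at hz
  have h2 : (Nat.card {g : G // IsConj t g} : ℤ) * h = z * (deg (χ : G → ℂ) : ℤ) := by exact_mod_cast hz
  have h3 : (Nat.card {g : G // IsConj t g} : ℤ) * (cen t : ℤ) = Nat.card G := by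
    exact_mod_cast card_isConj_mul t
  refine ⟨z, ?_⟩
  rw [← h3]
  linear_combination (cen t : ℤ) * h2

theorem vanish (χ : Cfsg.IrrCharacter G) {p : ℕ} (hp : p.Prime) (hF : p ∣ deg (χ : G → ℂ))
    (hfac : (Nat.card G).factorization p = (deg (χ : G → ℂ)).factorization p) {g : G}
    (hg : p ∣ orderOf g) : (χ : G → ℂ) g = 0 := by
  letI := Fintype.ofFinite G
  exact eq_zero_of_defect_zero χ.2 hp (Nat.ordProj_dvd (Nat.card G) p)
    (Nat.pow_succ_factorization_not_dvd Nat.card_pos.ne' hp) (hfac ▸ Nat.ordProj_dvd _ p) hg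

end CharTh

theorem charStmt : Cfsg.Lib.ThreeFour.CharStmt.{u} := by
  intro G _ _ x V S
  have H := S.hyp
  haveI := S.simple
  letI := Fintype.ofFinite G
  letI := Fintype.ofFinite V
  obtain ⟨τ, hτ, hnc⟩ := exists_tau S
  obtain ⟨a, M, D⟩ := exists_table S hτ
  obtain ⟨χ, ψ, hF, hmod, hψ⟩ := exists_signed S D
  set F := deg (χ : G → ℂ) with hFd
  set h : G → ℤ := fun t => if e : ∃ k : ℤ, (χ : G → ℂ) t = (k : ℂ) then e.choose else 0 with hh
  have hval : ∀ t, orderOf t = 2 → (χ : G → ℂ) t = ((1 * h t : ℤ) : ℂ) ∧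
      (ψ : G → ℂ) t = (((-1) * (-1 - h t) : ℤ) : ℂ) ∧ |h t| < F ∧ (4 : ℤ) ∣ (F : ℤ) - h t := by
    intro t ht
    obtain ⟨k, hk, hk', h1, h2⟩ := hF.value S ht
    have e : ∃ k : ℤ, (χ : G → ℂ) t = (k : ℂ) := ⟨1 * k, hk⟩
    have he : h t = k := by
      simp only [hh, dif_pos e]
      have := e.choose_spec.symm.trans hk
      rw [one_mul] at this
      exact_mod_cast this
    rw [he]
    exact ⟨hk, hk', h1, by simpa using h2⟩
  have hsum : ∀ f : Cfsg.IrrCharacter G → ℝ, (∀ ξ, 0 ≤ f ξ) →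
      f (principal G) + f χ + f ψ ≤ ∑ ξ, f ξ := by
    intro f hf
    refine le_trans (le_of_eq ?_) (Finset.sum_le_sum_of_subset_of_nonneg
      (Finset.subset_univ ({principal G, χ, ψ} : Finset (Cfsg.IrrCharacter G))) fun i _ _ => hf i)
    rw [Finset.sum_insert (by simp [hF.ne₁.symm, hF.ne₂.symm]), Finset.sum_pair hF.ne, add_assoc]
  have hdvd : F ∣ Nat.card G ∧ (F + 1) ∣ Nat.card G :=
    ⟨IsIrrCharacter.deg_dvd χ.2, hψ ▸ IsIrrCharacter.deg_dvd ψ.2⟩
  have h5 : F % 5 ≠ 0 ∧ (F + 1) % 5 ≠ 0 :=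
    ⟨fun e => S.five ((Nat.dvd_of_mod_eq_zero e).trans hdvd.1),
      fun e => S.five ((Nat.dvd_of_mod_eq_zero e).trans hdvd.2)⟩
  have h3le : 3 ≤ F :=
    Cfsg.Lib.GWD.three_le_deg (fun hc => not_comm S hc.is_comm.comm) χ hF.ne₁
  have hcross : ∀ s t : G, orderOf s = 2 → orderOf t = 2 →
      (3 : ℤ) * mu V τ s * mu V τ t * cen s * cen t * (F * (F + 1)) =
        Nat.card V * Nat.card G * ((F - h s) * (F - h t)) := by
    intro s t hs ht
    obtain ⟨a1, a2, -, -⟩ := hval s hs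
    obtain ⟨b1, b2, -, -⟩ := hval t ht
    have e := hF.count S hs ht a1 a2 b1 b2
    rw [card_pairs H hτ hs ht] at e
    simp only [one_mul] at e
    apply Int.cast_injective (α := ℂ)
    push_cast at e ⊢
    linear_combination e
  refine ⟨τ, F, h, hτ, ⟨by omega, hmod, h5, hdvd, ?_, ?_, ?_, fun t ht => (hval t ht).2.2.1,
    fun t ht => (hval t ht).2.2.2, ?_, ?_, hcross, ?_⟩, hnc⟩
  · have h1 := hsum (fun ξ => ((deg (ξ : G → ℂ) : ℝ)) ^ 2) fun ξ => by positivity
    have h2 : ∑ ξ : Cfsg.IrrCharacter G, ((deg (ξ : G → ℂ) : ℝ)) ^ 2 = Nat.card G := by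
      exact_mod_cast sum_deg_sq_nat (G := G)
    rw [h2, show deg (principal G : G → ℂ) = 1 from by simp [deg, principal], hψ] at h1
    have h3 : 1 ^ 2 + F ^ 2 + (F + 1) ^ 2 ≤ Nat.card G := by exact_mod_cast h1
    simpa using h3
  · intro p r hp hr hpF hrF hfp hfr g hg
    have hp3 : p ≠ 3 := fun e => by rw [e] at hpF; omega
    have hr3 : r ≠ 3 := fun e => by rw [e] at hrF; omega
    have hpr : p ≠ r := fun e => by
      subst e
      exact hp.one_lt.ne' (Nat.dvd_one.1 (by simpa using Nat.dvd_sub hrF hpF))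
    have hn6 : ¬ orderOf g ∣ 6 := fun h6 => by
      have h' := hg.trans h6
      have key : ∀ q : ℕ, q.Prime → q ≠ 3 → q ∣ 2 * 3 → q = 2 := fun q hq hq3 hd => by
        rcases hq.dvd_mul.1 hd with e | e
        · exact (Nat.prime_dvd_prime_iff_eq hq Nat.prime_two).1 e
        · exact absurd ((Nat.prime_dvd_prime_iff_eq hq Nat.prime_three).1 e) hq3
      exact hpr ((key p hp hp3 ((dvd_mul_right p r).trans h')).trans
        (key r hr hr3 ((dvd_mul_left r p).trans h')).symm)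
    have hrel := hF.rel H (g := g) (Or.inr hn6)
    rw [vanish χ hp hpF hfp ((dvd_mul_right p r).trans hg),
      vanish ψ hr (hψ ▸ hrF) (hψ ▸ hfr) ((dvd_mul_left r p).trans hg)] at hrel
    simp at hrel
  · intro t ht
    refine Nat.pos_of_ne_zero fun h0 => ?_
    have e := hcross t t ht ht
    rw [h0] at e
    obtain ⟨-, -, hlt, -⟩ := hval t ht
    have h1 : (F : ℤ) - h t ≠ 0 := by
      intro e'
      rw [abs_lt] at hlt
      omega
    have h2 : (Nat.card V : ℤ) * Nat.card G * (((F : ℤ) - h t) * ((F : ℤ) - h t)) ≠ 0 :=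
      mul_ne_zero (mul_ne_zero (Int.natCast_ne_zero.2 Nat.card_pos.ne')
        (Int.natCast_ne_zero.2 Nat.card_pos.ne')) (mul_ne_zero h1 h1)
    exact h2 (e.symm.trans (by simp))
  · intro t ht
    obtain ⟨a1, a2, -, -⟩ := hval t ht
    have h1 := hsum (fun ξ => ‖(ξ : G → ℂ) t‖ ^ 2) fun ξ => by positivity
    rw [sum_norm_sq_irr, a1, a2, show (principal G : G → ℂ) t = 1 from rfl, norm_one,
      Complex.norm_intCast, Complex.norm_intCast, sq_abs, sq_abs] at h1
    have h2 : ((1 + (1 * h t) ^ 2 + ((-1) * (-1 - h t)) ^ 2 : ℤ) : ℝ) ≤ ((cen t : ℤ) : ℝ) := by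
      simpa [cen] using h1
    have h3 := Int.cast_le.1 h2
    linarith
  · intro t ht
    obtain ⟨a1, a2, -, -⟩ := hval t ht
    rw [one_mul] at a1
    refine ⟨centre_dvd χ t a1, ?_⟩
    have h2 := centre_dvd ψ t a2
    rw [hψ] at h2
    push_cast at h2
    rw [show -1 * (-1 - h t) = h t + 1 by ring] at h2
    exact h2
  · exact triangle_ge S D hF hψ

end Cfsg.Lib.ThreeFour
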